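import Cfsg.Agent.Lib.Block.Dihedral.Setup

/-!
Coordinates of the principal block on the rotations of a dihedral Sylow 2-subgroup.
-/

open scoped ComplexConjugate IsMulCommutative

namespace Cfsg.Agent.Block.Dih

set_option linter.unusedSectionVars false
set_option linter.style.haveILetI false

universe u

variable {G : Type u} [Group G] [Finite G] {M : Ideal AlgInt} {P : Sylow 2 G} {σ : G} {m : ℕ}

/-- The multiplicity of `ψ` minus that of the trivial character. -/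
noncomputable def dcoef (σ : G) (χ : IrrCharacter G) (ψ : Subgroup.zpowers σ →* ℂˣ) : ℂ :=
  (Nat.card (Subgroup.zpowers σ) : ℂ)⁻¹ *
    ∑ᶠ y : Subgroup.zpowers σ, (χ : G → ℂ) y * (((ψ y⁻¹ : ℂˣ) : ℂ) - 1)

theorem dcoef_eq [Fintype (Subgroup.zpowers σ)] (χ : IrrCharacter G)
    (ψ : Subgroup.zpowers σ →* ℂˣ) : dcoef σ χ ψ = (Nat.card (Subgroup.zpowers σ) : ℂ)⁻¹ *
      ∑ y : Subgroup.zpowers σ, (χ : G → ℂ) y * (((ψ y⁻¹ : ℂˣ) : ℂ) - 1) := by
  rw [dcoef, finsum_eq_sum_of_fintype]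

theorem lin_genChar (ψ : Subgroup.zpowers σ →* ℂˣ) :
    IsGeneralizedCharacter (Subgroup.zpowers σ) (fun y => ((ψ y : ℂˣ) : ℂ) - 1) :=
  ⟨fun y => ((ψ y : ℂˣ) : ℂ), fun _ => 1,
    Cfsg.Agent.Char.IsIrr.isCharacter (Cfsg.Agent.Char.isIrr_linear ψ), Cfsg.Agent.Char.IsChar.one,
    rfl⟩

theorem dcoef_int (χ : IrrCharacter G) (ψ : Subgroup.zpowers σ →* ℂˣ) :
    ∃ n : ℤ, dcoef σ χ ψ = n := by
  cases nonempty_fintype (Subgroup.zpowers σ)
  obtain ⟨n, hn⟩ := Cfsg.Agent.Char.IsGenChar.classInner_int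
    (Cfsg.Agent.Char.IsGenChar.of_isCharacter
      (Cfsg.Agent.Char.IsChar.res (irr_isChar χ) (Subgroup.zpowers σ))) (lin_genChar ψ)
  refine ⟨n, ?_⟩
  rw [← hn, dcoef_eq, classInner]
  simp only [map_sub, map_one, lin_conj]

theorem dcoef_trivial {ψ : Subgroup.zpowers σ →* ℂˣ} (hψ : ψ ≠ 1) :
    dcoef σ (trivialIrr G) ψ = -1 := by
  classical
  cases nonempty_fintype (Subgroup.zpowers σ)
  rw [dcoef_eq]
  simp only [show ∀ g : G, (trivialIrr G : G → ℂ) g = 1 from fun _ => rfl, one_mul,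
    Finset.sum_sub_distrib, Finset.sum_const, nsmul_eq_mul, mul_one, Finset.card_univ]
  rw [Fintype.sum_equiv (Equiv.inv (Subgroup.zpowers σ)) (fun y => ((ψ y⁻¹ : ℂˣ) : ℂ))
    (fun y => ((ψ y : ℂˣ) : ℂ)) fun y => rfl, lin_sum_elements, if_neg hψ,
    ← Nat.card_eq_fintype_card]
  field_simp [Nat.card_pos.ne']
  ring

theorem dcoef_one (χ : IrrCharacter G) : dcoef σ χ (1 : Subgroup.zpowers σ →* ℂˣ) = 0 := by
  cases nonempty_fintype (Subgroup.zpowers σ)
  simp [dcoef_eq]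

theorem value_eq_dcoef [Fintype (Subgroup.zpowers σ →* ℂˣ)] (χ : IrrCharacter G)
    {y : Subgroup.zpowers σ} (hy : y ≠ 1) :
    (χ : G → ℂ) y = ∑ ψ : Subgroup.zpowers σ →* ℂˣ, dcoef σ χ ψ * ((ψ y : ℂˣ) : ℂ) := by
  classical
  cases nonempty_fintype (Subgroup.zpowers σ)
  rw [lin_expand (fun y : Subgroup.zpowers σ => (χ : G → ℂ) y) y]
  have h : ∀ ψ : Subgroup.zpowers σ →* ℂˣ, dcoef σ χ ψ * ((ψ y : ℂˣ) : ℂ) =
      ((Nat.card (Subgroup.zpowers σ) : ℂ)⁻¹ * ∑ x : Subgroup.zpowers σ,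
        (χ : G → ℂ) x * ((ψ x⁻¹ : ℂˣ) : ℂ)) * ((ψ y : ℂˣ) : ℂ) -
      ((Nat.card (Subgroup.zpowers σ) : ℂ)⁻¹ * ∑ x : Subgroup.zpowers σ, (χ : G → ℂ) x) *
        ((ψ y : ℂˣ) : ℂ) := fun ψ => by
    rw [dcoef_eq, ← sub_mul, ← mul_sub, ← Finset.sum_sub_distrib]
    simp only [mul_sub, mul_one]
  rw [Finset.sum_congr rfl fun ψ _ => h ψ, Finset.sum_sub_distrib, ← Finset.mul_sum,
    lin_sum_hom, if_neg hy, mul_zero, sub_zero]

theorem Data.dcoef_inv (h : Data P σ m) (χ : IrrCharacter G) (ψ : Subgroup.zpowers σ →* ℂˣ) :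
    dcoef σ χ ψ⁻¹ = dcoef σ χ ψ := by
  cases nonempty_fintype (Subgroup.zpowers σ)
  rw [dcoef_eq, dcoef_eq]
  congr 1
  refine Fintype.sum_equiv (Equiv.inv (Subgroup.zpowers σ)) _ _ fun y => ?_
  obtain ⟨x, hx, -, hxσ⟩ := h.exists_refl
  have e : (χ : G → ℂ) ((y⁻¹ : Subgroup.zpowers σ) : G) = (χ : G → ℂ) y := by
    obtain ⟨k, hk⟩ := Subgroup.mem_zpowers_iff.1 y.2
    rw [show ((y⁻¹ : Subgroup.zpowers σ) : G) = x * y * x⁻¹ by
      rw [← hk, ← conj_zpow, hxσ, inv_zpow, InvMemClass.coe_inv, ← hk]]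
    exact irr_classFun χ _ x
  simp only [Equiv.inv_apply, e, inv_inv, MonoidHom.inv_apply, map_inv]

theorem Data.dcoef_orth (h : Data P σ m) (hM : IsPModular 2 M) (ψ : Subgroup.zpowers σ →* ℂˣ)
    {g : G} (hg : ¬ 2 ∣ orderOf g) :
    ∑ᶠ χ ∈ principalBlock M G, dcoef σ χ ψ * (χ : G → ℂ) g = 0 := by
  classical
  haveI : Fact (Nat.Prime 2) := ⟨Nat.prime_two⟩
  cases nonempty_fintype G
  cases nonempty_fintype (Subgroup.zpowers σ)
  rw [finsum_mem_block]
  simp only [dcoef_eq, Finset.mul_sum, Finset.sum_mul]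
  rw [Finset.sum_comm, Finset.sum_eq_zero]
  intro y _
  by_cases hy : y = 1
  · exact Finset.sum_eq_zero fun χ _ => by simp [hy]
  · have hy1 : (y : G) ≠ 1 := fun e => hy (Subtype.ext e)
    have hyi : ∃ k : ℕ, orderOf (y : G)⁻¹ = 2 ^ k := by
      obtain ⟨k, hk⟩ := pPow_of_mem h.isPGroup y.2
      exact ⟨k, by rw [orderOf_inv, hk]⟩
    have ho := section_orth hM (g := g) (h := ((y : G)⁻¹)) (x := 1) (z := ((y : G)⁻¹))
      ⟨g, one_mul g, Commute.one_left g, ⟨0, by rw [orderOf_one, pow_zero]⟩, hg⟩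
      (isPPart_self_of_pPow hyi) (fun hc => hy1 (inv_eq_one.1 (isConj_one_right.1 hc)))
      (isPBlock_principalBlock (G := G) (M := M))
    simp only [inv_inv, finsum_mem_block] at ho
    calc _ = ∑ χ ∈ Finset.univ.filter (fun χ : IrrCharacter G => χ ∈ principalBlock M G),
        ((Nat.card (Subgroup.zpowers σ) : ℂ)⁻¹ * (((ψ y⁻¹ : ℂˣ) : ℂ) - 1)) *
          ((χ : G → ℂ) g * (χ : G → ℂ) (y : G)) := Finset.sum_congr rfl fun χ _ => by ring
      _ = 0 := by rw [← Finset.mul_sum, ho, mul_zero]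

theorem lin_inv_eq_one {H : Type u} [Group H] {χ : H →* ℂˣ} (h : χ⁻¹ = 1) : χ = 1 :=
  MonoidHom.ext fun y => by simpa using congrArg (fun f : H →* ℂˣ => f y) h

theorem Data.dcoef_gram (h : Data P σ m) (hM : IsPModular 2 M)
    {ψ φ : Subgroup.zpowers σ →* ℂˣ} (hψ : ψ ≠ 1) (hφ : φ ≠ 1) [Decidable (ψ = φ)]
    [Decidable (ψ = φ⁻¹)] :
    ∑ᶠ χ ∈ principalBlock M G, dcoef σ χ ψ * conj (dcoef σ χ φ) =
      (if ψ = φ then 1 else 0) + (if ψ = φ⁻¹ then 1 else 0) + 2 := by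
  classical
  haveI : Fact (Nat.Prime 2) := ⟨Nat.prime_two⟩
  cases nonempty_fintype G
  cases nonempty_fintype (Subgroup.zpowers σ)
  cases nonempty_fintype (P : Subgroup G)
  set U : Set G := {y | y ∈ Subgroup.zpowers σ ∧ y ≠ 1}
  have hw : ∀ y ∈ U, ∑ᶠ ξ ∈ principalBlock M (Subgroup.centralizer ({y} : Set G)),
      ((charDegree (ξ : Subgroup.centralizer ({y} : Set G) → ℂ) : ℕ) : ℂ) ^ 2 =
      (1 : ℂ) * Nat.card ↥((P : Subgroup G) ⊓ Subgroup.centralizer ({y} : Set G)) := by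
    intro y hy
    rw [column_eq hM (h.complement_rotation hy.1 hy.2), h.card_centralizer_rotation hy.1 hy.2,
      one_mul]
  have hid := principal_inner_identity hM (Subgroup.zpowers σ) h.isPGroup (P : Subgroup G)
    h.le_normalizer U (fun u hu g hg => h.fusion hu.1 hg) 1 hw
    (η := fun y => ((φ y : ℂˣ) : ℂ) - 1) (lin_genChar ψ) (fun y hy => by
      have h1 : y = 1 := by
        by_contra h
        exact hy ⟨y.2, fun h' => h (Subtype.ext h')⟩
      simp [h1])
  simp only [← dcoef_eq] at hid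
  rw [hid]
  set q : ℂ := (Nat.card (Subgroup.zpowers σ) : ℂ) with hq
  have hq0 : q ≠ 0 := Nat.cast_ne_zero.2 Nat.card_pos.ne'
  have hpair : ∀ χ : Subgroup.zpowers σ →* ℂˣ, χ ≠ 1 →
      ∑ y : Subgroup.zpowers σ, (((ψ y : ℂˣ) : ℂ) - 1) * conj (((χ y : ℂˣ) : ℂ) - 1) =
      q * ((if ψ = χ then 1 else 0) + 1) := by
    intro χ hχ
    have e : ∀ y : Subgroup.zpowers σ, (((ψ y : ℂˣ) : ℂ) - 1) * conj (((χ y : ℂˣ) : ℂ) - 1) =
        (((ψ * χ⁻¹) y : ℂˣ) : ℂ) - ((ψ y : ℂˣ) : ℂ) - ((χ⁻¹ y : ℂˣ) : ℂ) + 1 := fun y => by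
      rw [map_sub, map_one, lin_conj, map_inv]
      simp only [MonoidHom.mul_apply, MonoidHom.inv_apply, Units.val_mul]
      ring
    rw [Finset.sum_congr rfl fun y _ => e y, Finset.sum_add_distrib, Finset.sum_sub_distrib,
      Finset.sum_sub_distrib, lin_sum_elements, lin_sum_elements, lin_sum_elements, if_neg hψ,
      if_neg (show ¬ χ⁻¹ = 1 from fun h => hχ (lin_inv_eq_one h)), Finset.sum_const, Finset.card_univ,
      nsmul_eq_mul, ← Nat.card_eq_fintype_card, ← hq]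
    by_cases he : ψ = χ
    · rw [if_pos (show ψ * χ⁻¹ = 1 by rw [he]; exact mul_inv_cancel χ), if_pos he]
      ring
    · rw [if_neg (show ¬ ψ * χ⁻¹ = 1 from fun h => he (MonoidHom.ext fun y => by
        simpa [mul_inv_eq_one] using congrArg (fun f => f y) h)), if_neg he]
      ring
  let τ : ↥(P : Subgroup G) → (Subgroup.zpowers σ →* ℂˣ) := fun n =>
    if (n : G) ∈ Subgroup.zpowers σ then φ else φ⁻¹
  have hext : ∀ (n : ↥(P : Subgroup G)) (y : Subgroup.zpowers σ),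
      extendByZero (Subgroup.zpowers σ) (fun y => ((φ y : ℂˣ) : ℂ) - 1)
        ((n : G) * y * (n : G)⁻¹) = ((τ n y : ℂˣ) : ℂ) - 1 := by
    intro n y
    rw [extendByZero]
    by_cases hn : (n : G) ∈ Subgroup.zpowers σ
    · have e : (n : G) * y * (n : G)⁻¹ = (y : G) := by
        obtain ⟨i, hi⟩ := Subgroup.mem_zpowers_iff.1 hn
        obtain ⟨j, hj⟩ := Subgroup.mem_zpowers_iff.1 y.2
        rw [← hi, ← hj, ← zpow_neg, ← zpow_add, ← zpow_add]
        congr 1; omega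
      rw [e, Subtype.val_injective.extend_apply, show τ n = φ from if_pos hn]
    · have e : (n : G) * y * (n : G)⁻¹ = ((y⁻¹ : Subgroup.zpowers σ) : G) := by
        obtain ⟨-, -, hnσ⟩ := (h.cases n n.2).resolve_left hn
        obtain ⟨j, hj⟩ := Subgroup.mem_zpowers_iff.1 y.2
        rw [InvMemClass.coe_inv, ← hj, ← conj_zpow, hnσ, inv_zpow]
      rw [e, Subtype.val_injective.extend_apply, show τ n = φ⁻¹ from if_neg hn, map_inv,
        MonoidHom.inv_apply]
  have hτ : ∀ n, τ n ≠ 1 := fun n => by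
    simp only [τ]
    split_ifs
    · exact hφ
    · exact fun h => hφ (lin_inv_eq_one h)
  have hcard1 : ((Finset.univ.filter fun n : ↥(P : Subgroup G) =>
      (n : G) ∈ Subgroup.zpowers σ).card : ℂ) = q := by
    rw [hq, ← Nat.card_congr (Subgroup.subgroupOfEquivOfLe h.zpowers_le).toEquiv,
      ← Nat.card_eq_finsetCard]
    congr 1
    exact Nat.card_congr (Equiv.subtypeEquivRight fun n => by simp [Subgroup.mem_subgroupOf])
  have hcard2 : ((Finset.univ.filter fun n : ↥(P : Subgroup G) =>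
      ¬ (n : G) ∈ Subgroup.zpowers σ).card : ℂ) = q := by
    have e := Finset.card_filter_add_card_filter_not (s := Finset.univ)
      (fun n : ↥(P : Subgroup G) => (n : G) ∈ Subgroup.zpowers σ)
    rw [Finset.card_univ, ← Nat.card_eq_fintype_card, h.card] at e
    have e' := congrArg (fun k : ℕ => (k : ℂ)) e
    push_cast at e'
    rw [hcard1] at e'
    rw [hq, h.card_zpowers] at e' ⊢
    linear_combination e'
  simp only [hext, map_sum, Finset.mul_sum]
  rw [Finset.sum_comm]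
  simp only [← Finset.mul_sum]
  rw [Finset.sum_congr rfl fun n _ => hpair _ (hτ n), ← Finset.mul_sum, Finset.sum_add_distrib,
    ← Finset.sum_filter_add_sum_filter_not Finset.univ
      (fun n : ↥(P : Subgroup G) => (n : G) ∈ Subgroup.zpowers σ)
      (fun n => if ψ = τ n then (1 : ℂ) else 0),
    Finset.sum_congr rfl (s₁ := Finset.univ.filter fun n : ↥(P : Subgroup G) =>
        (n : G) ∈ Subgroup.zpowers σ) (g := fun _ => if ψ = φ then (1 : ℂ) else 0) fun n hn => by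
      rw [show τ n = φ from if_pos (Finset.mem_filter.1 hn).2]; congr,
    Finset.sum_congr rfl (s₁ := Finset.univ.filter fun n : ↥(P : Subgroup G) =>
        ¬ (n : G) ∈ Subgroup.zpowers σ) (g := fun _ => if ψ = φ⁻¹ then (1 : ℂ) else 0) fun n hn => by
      rw [show τ n = φ⁻¹ from if_neg (Finset.mem_filter.1 hn).2]; congr,
    Finset.sum_const, Finset.sum_const, Finset.sum_const, nsmul_eq_mul, nsmul_eq_mul, nsmul_eq_mul,
    hcard1, hcard2, Finset.card_univ, ← Nat.card_eq_fintype_card, h.card, hq, h.card_zpowers]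
  have hm0 : (m : ℂ) ≠ 0 := by
    have := h.four
    exact Nat.cast_ne_zero.2 (by omega)
  push_cast
  split_ifs <;> field_simp <;> ring

/-- The column of the principal block at an involution. -/
theorem Data.column_involution (h : Data P σ m) (hM : IsPModular 2 M) {z : G}
    (hz : orderOf z = 2) :
    ∑ᶠ χ ∈ principalBlock M G, (χ : G → ℂ) z * conj ((χ : G → ℂ) z) =
      ((2 ^ (Nat.card (Subgroup.centralizer ({z} : Set G))).factorization 2 : ℕ) : ℂ) := by
  classical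
  haveI : Fact (Nat.Prime 2) := ⟨Nat.prime_two⟩
  cases nonempty_fintype G
  set Z := Subgroup.zpowers z
  cases nonempty_fintype Z
  have hz1 : z ≠ 1 := fun e => by rw [e, orderOf_one] at hz; omega
  have hzz : z * z = 1 := by rw [← _root_.pow_two, ← hz, pow_orderOf_eq_one]
  have hZ : ∀ w ∈ Z, w = 1 ∨ w = z := by
    intro w hw
    obtain ⟨k, rfl⟩ := Subgroup.mem_zpowers_iff.1 hw
    rw [← zpow_mod_orderOf, hz]
    rcases (show k % ((2 : ℕ) : ℤ) = 0 ∨ k % ((2 : ℕ) : ℤ) = 1 by omega) with e | e <;> rw [e]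
    · left; rw [zpow_zero]
    · right; rw [zpow_one]
  set θ : Z → ℂ := fun y => if (y : G) = 1 then 0 else -2 with hθ
  obtain ⟨ψ, hψ⟩ : ∃ ψ : Z →* ℂˣ, ∀ y : Z, θ y = ((ψ y : ℂˣ) : ℂ) - 1 := by
    refine ⟨{ toFun := fun y => if (y : G) = 1 then 1 else -1, map_one' := by simp,
              map_mul' := fun a b => ?_ }, fun y => ?_⟩
    · rcases hZ a a.2 with ea | ea <;> rcases hZ b b.2 with eb | eb <;>
        simp [Subgroup.coe_mul, ea, eb, hz1, hzz]
    · simp only [hθ, MonoidHom.coe_mk, OneHom.coe_mk]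
      split_ifs <;> simp <;> norm_num
  have hgen : IsGeneralizedCharacter Z θ := by
    rw [show θ = fun y => ((ψ y : ℂˣ) : ℂ) - 1 from funext hψ]
    exact ⟨fun y => ((ψ y : ℂˣ) : ℂ), fun _ => 1,
      Cfsg.Agent.Char.IsIrr.isCharacter (Cfsg.Agent.Char.isIrr_linear ψ),
      Cfsg.Agent.Char.IsChar.one, rfl⟩
  set w : ℂ := ((2 ^ (Nat.card (Subgroup.centralizer ({z} : Set G))).factorization 2 : ℕ) : ℂ) / 2
  have hZC : Z ⊓ Subgroup.centralizer ({z} : Set G) = Z :=
    inf_eq_left.2 (Subgroup.zpowers_le.2 (centralizer_self_mem z))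
  have hid := principal_inner_identity hM Z (IsPGroup.of_card (n := 1) (by
      rw [Nat.card_zpowers, hz, pow_one])) Z Subgroup.le_normalizer {y | y = z}
    (fun u hu g hg => ⟨1, one_mem _, by
      rcases hZ _ hg with e | e
      · exact absurd (conj_eq_one_iff.1 e) (by rw [show u = z from hu]; exact hz1)
      · rw [one_mul, inv_one, mul_one, e]; exact hu⟩) w
    (fun y hy => by
      obtain rfl : y = z := hy
      rw [column_eq hM (h.complement y hz), hZC, Nat.card_zpowers, hz]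
      simp only [w]; push_cast; ring)
    (η := θ) hgen (fun y hy => by
      rcases hZ y y.2 with e | e
      · simp only [hθ]; exact if_pos e
      · exact absurd e hy)
  have hsum : ∀ f : Z → ℂ, ∑ y, f y = f 1 + f ⟨z, Subgroup.mem_zpowers z⟩ := fun f => by
    rw [show (Finset.univ : Finset Z) = {1, ⟨z, Subgroup.mem_zpowers z⟩} by
      ext y
      simp only [Finset.mem_univ, Finset.mem_insert, Finset.mem_singleton, true_iff]
      rcases hZ y y.2 with e | e
      · exact .inl (Subtype.ext e)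
      · exact .inr (Subtype.ext e)]
    exact Finset.sum_pair fun e => hz1 (congrArg Subtype.val e).symm
  have hinv : (⟨z, Subgroup.mem_zpowers z⟩ : Z)⁻¹ = ⟨z, Subgroup.mem_zpowers z⟩ :=
    Subtype.ext (inv_eq_of_mul_eq_one_left hzz)
  have hconj : ∀ n : Z, (n : G) * z * (n : G)⁻¹ = z := fun n => by
    rcases hZ n n.2 with e | e <;> simp [e]
  have hext : ∀ y : Z, extendByZero Z θ (y : G) = θ y := fun y =>
    Subtype.val_injective.extend_apply _ (0 : G → ℂ) y
  simp only [hsum, inv_one, hinv, hθ, hz1, if_true, if_false, OneMemClass.coe_one,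
    Nat.card_zpowers, hz, zero_mul, mul_zero, zero_add, hconj, one_mul, mul_one, mul_inv_cancel_right, map_mul, Complex.conj_natCast,
    map_neg, map_inv₀, map_ofNat] at hid
  rw [show extendByZero Z (fun y : Z => if (y : G) = 1 then (0 : ℂ) else -2) z = -2 from
    (hext ⟨z, Subgroup.mem_zpowers z⟩).trans (if_neg hz1)] at hid
  simp only [map_add, map_neg, map_ofNat, w] at hid
  rw [show Nat.card Z = 2 by rw [Nat.card_zpowers, hz]] at hid
  push_cast at hid ⊢
  rw [show ((2 : ℂ) ^ (Nat.card (Subgroup.centralizer ({z} : Set G))).factorization 2) =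
    (2 : ℂ) ^ (Nat.card (Subgroup.centralizer ({z} : Set G))).factorization 2 / 2 / 2 ^ 2 *
      (-2 * (-2 + -2)) by ring, ← hid]
  exact finsum_congr fun χ => finsum_congr fun _ => by ring

end Cfsg.Agent.Block.Dih
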