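import Mathlib

/-!
The combinatorics of the principal block with a dihedral Sylow 2-subgroup: vectors of Gram matrix
`2 + δ` and one of norm four meeting each of them in two.
-/

namespace Cfsg.Agent.Block.Dih

variable {ι : Type*} [DecidableEq ι]

/-- Two units summing to one against positive weights. -/
theorem unit_pair {x y : ι} {v : ι → ℤ} {d : ι → ℕ} (hd : ∀ x, 0 < d x)
    (hx : v x = 1 ∨ v x = -1) (hy : v y = 1 ∨ v y = -1)
    (h : (d x : ℤ) * v x + (d y : ℤ) * v y = 1) :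
    (v x = 1 ∧ v y = -1) ∨ (v x = -1 ∧ v y = 1) := by
  have hdx : (0 : ℤ) < d x := by exact_mod_cast hd x
  have hdy : (0 : ℤ) < d y := by exact_mod_cast hd y
  rcases hx with e | e <;> rcases hy with e' | e' <;> rw [e, e'] at h ⊢ <;> omega

/-- A vector of norm three through `o`. -/
theorem norm_three (S : Finset ι) {o : ι} (ho : o ∈ S) (A : ι → ℤ) (d : ι → ℕ) (hd : ∀ x, 0 < d x)
    (hdo : d o = 1) (hA : A o = -1) (h3 : ∑ x ∈ S, A x ^ 2 = 3)
    (hdeg : ∑ x ∈ S, (d x : ℤ) * A x = 0) :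
    ∃ a b, a ∈ S ∧ b ∈ S ∧ a ≠ o ∧ b ≠ o ∧ a ≠ b ∧ ∀ x ∈ S, A x =
      (if x = a then 1 else 0) - (if x = b then 1 else 0) - (if x = o then 1 else 0) := by
  classical
  rw [← Finset.add_sum_erase S _ ho, hA] at h3 hdeg
  rw [hdo] at hdeg
  set U := S.erase o with hU
  have hpm : ∀ x ∈ U, A x = 0 ∨ A x = 1 ∨ A x = -1 := fun x hx => by
    have h := Finset.single_le_sum (f := fun x => A x ^ 2) (fun y _ => sq_nonneg (A y)) hx
    have h1 : -2 < A x := by nlinarith
    have h2 : A x < 2 := by nlinarith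
    omega
  set T := U.filter fun x => A x ≠ 0
  have hT1 : ∑ x ∈ T, A x ^ 2 = 2 := by
    rw [Finset.sum_subset (Finset.filter_subset _ _) fun x hx hx' => by
      rw [not_not.1 fun h => hx' (Finset.mem_filter.2 ⟨hx, h⟩)]; norm_num]
    linarith
  have hTd : ∑ x ∈ T, (d x : ℤ) * A x = 1 := by
    rw [Finset.sum_subset (Finset.filter_subset _ _) fun x hx hx' => by
      rw [not_not.1 fun h => hx' (Finset.mem_filter.2 ⟨hx, h⟩), mul_zero]]
    push_cast at hdeg
    linarith
  have hpmT : ∀ x ∈ T, A x = 1 ∨ A x = -1 := fun x hx =>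
    (hpm x (Finset.mem_filter.1 hx).1).resolve_left (Finset.mem_filter.1 hx).2
  rw [Finset.sum_congr rfl (g := fun _ => (1 : ℤ)) fun x hx => by
    rcases hpmT x hx with e | e <;> rw [e] <;> norm_num, Finset.sum_const, nsmul_eq_mul,
    mul_one] at hT1
  obtain ⟨x, y, hxy, hTxy⟩ := Finset.card_eq_two.1 (show T.card = 2 by exact_mod_cast hT1)
  have hx : x ∈ T := by rw [hTxy]; simp
  have hy : y ∈ T := by rw [hTxy]; simp
  rw [hTxy, Finset.sum_pair hxy] at hTd
  have hmemU : ∀ z ∈ T, z ∈ S ∧ z ≠ o := fun z hz =>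
    ⟨(Finset.mem_erase.1 (Finset.mem_filter.1 hz).1).2, (Finset.mem_erase.1 (Finset.mem_filter.1 hz).1).1⟩
  have key : ∀ a b, a ∈ T → b ∈ T → T = {a, b} → a ≠ b → A a = 1 → A b = -1 →
      ∀ z ∈ S, A z = (if z = a then 1 else 0) - (if z = b then 1 else 0) -
        (if z = o then 1 else 0) := by
    intro a b ha hb hab hne ea eb z hz
    by_cases h1 : z = a
    · subst h1; rw [if_pos rfl, if_neg hne, if_neg (hmemU _ ha).2, ea]; norm_num
    by_cases h2 : z = b
    · subst h2; rw [if_neg h1, if_pos rfl, if_neg (hmemU _ hb).2, eb]; norm_num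
    by_cases h3 : z = o
    · subst h3; rw [if_neg h1, if_neg h2, if_pos rfl, hA]; norm_num
    rw [if_neg h1, if_neg h2, if_neg h3]
    simp only [sub_zero]
    by_contra h
    have : z ∈ T := Finset.mem_filter.2 ⟨Finset.mem_erase.2 ⟨h3, hz⟩, h⟩
    rw [hab] at this
    simp [h1, h2] at this
  rcases unit_pair hd (hpmT x hx) (hpmT y hy) hTd with ⟨ex, ey⟩ | ⟨ex, ey⟩
  · exact ⟨x, y, (hmemU x hx).1, (hmemU y hy).1, (hmemU x hx).2, (hmemU y hy).2, hxy,
      key x y hx hy hTxy hxy ex ey⟩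
  · exact ⟨y, x, (hmemU y hy).1, (hmemU x hx).1, (hmemU y hy).2, (hmemU x hx).2, hxy.symm,
      key y x hy hx (hTxy.trans (Finset.pair_comm x y)) hxy.symm ey ex⟩

/-- The core. -/
theorem dih_core {r : ℕ} (hr : 0 < r) (hr2 : r ≠ 2) (S : Finset ι) {o : ι} (ho : o ∈ S)
    (A : Fin r → ι → ℤ) (E : ι → ℤ) (d : ι → ℕ) (hd : ∀ x, 0 < d x) (hdo : d o = 1)
    (hA : ∀ j, A j o = -1) (hE : E o = -1)
    (hgram : ∀ j k, ∑ x ∈ S, A j x * A k x = (if j = k then 1 else 0) + 2)
    (hAE : ∀ j, ∑ x ∈ S, A j x * E x = 2) (hEE : ∑ x ∈ S, E x * E x = 4)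
    (hdeg : ∀ j, ∑ x ∈ S, (d x : ℤ) * A j x = 0) (hdegE : ∑ x ∈ S, (d x : ℤ) * E x = 0) :
    ∃ (a b c : ι) (s s₂ s₃ : ℤ) (η : Fin r → ι),
      (s = 1 ∨ s = -1) ∧ (s₂ = 1 ∨ s₂ = -1) ∧ (s₃ = 1 ∨ s₃ = -1) ∧
      a ∈ S ∧ b ∈ S ∧ c ∈ S ∧ a ≠ o ∧ b ≠ o ∧ c ≠ o ∧ a ≠ b ∧ a ≠ c ∧ b ≠ c ∧
      Function.Injective η ∧ (∀ j, η j ∈ S ∧ η j ≠ o ∧ η j ≠ a ∧ η j ≠ b ∧ η j ≠ c) ∧
      (∀ j, ∀ x ∈ S, A j x =
        (if x = a then s else 0) - (if x = η j then s else 0) - (if x = o then 1 else 0)) ∧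
      ∀ x ∈ S, E x = (if x = a then s else 0) + (if x = b then s₂ else 0) +
        (if x = c then s₃ else 0) - (if x = o then 1 else 0) := by
  classical
  have h3 : ∀ j, ∑ x ∈ S, A j x ^ 2 = 3 := fun j => by
    rw [Finset.sum_congr rfl fun x _ => sq (A j x), hgram, if_pos rfl]; norm_num
  choose p q hpS hqS hpo hqo hpq hAv using fun j =>
    norm_three S ho (A j) d hd hdo (hA j) (h3 j) (hdeg j)
  have hdot : ∀ j (f : ι → ℤ), ∑ x ∈ S, A j x * f x = f (p j) - f (q j) - f o := by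
    intro j f
    rw [Finset.sum_congr rfl (g := fun x => (if x = p j then f x else 0) -
      (if x = q j then f x else 0) - (if x = o then f x else 0)) fun x hx => by
        rw [hAv j x hx, sub_mul, sub_mul]; simp only [ite_mul, one_mul, zero_mul],
      Finset.sum_sub_distrib, Finset.sum_sub_distrib, Finset.sum_ite_eq' S, Finset.sum_ite_eq' S,
      Finset.sum_ite_eq' S, if_pos (hpS j), if_pos (hqS j), if_pos ho]
  have hshare : ∀ j k, j ≠ k → (p j = p k ∧ q j ≠ q k) ∨ (p j ≠ p k ∧ q j = q k) := by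
    intro j k hjk
    have h := hdot j (A k)
    rw [hgram, if_neg hjk, hAv k _ (hpS j), hAv k _ (hqS j), hA k] at h
    simp only [if_neg (hpo j), if_neg (hqo j), sub_zero] at h
    by_cases h1 : p j = p k <;> by_cases h2 : q j = q k
    · simp [h1, h2, hpq k, (hpq k).symm] at h
    · exact .inl ⟨h1, h2⟩
    · exact .inr ⟨h1, h2⟩
    · simp only [if_neg h1, if_neg h2] at h
      split_ifs at h <;> omega
  have hEdot : ∀ j, E (p j) - E (q j) = 1 := fun j => by
    have h := (hdot j E).symm.trans (hAE j)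
    rw [hE] at h
    linarith
  rw [← Finset.add_sum_erase S _ ho, hE] at hEE
  have hEpm : ∀ x ∈ S, x ≠ o → E x = 0 ∨ E x = 1 ∨ E x = -1 := fun x hx hxo => by
    have h := Finset.single_le_sum (f := fun x => E x * E x) (fun y _ => mul_self_nonneg (E y))
      (Finset.mem_erase.2 ⟨hxo, hx⟩)
    have h1 : -2 < E x := by nlinarith
    have h2 : E x < 2 := by nlinarith
    omega
  have hEcases : ∀ j, (E (p j) = 1 ∧ E (q j) = 0) ∨ (E (p j) = 0 ∧ E (q j) = -1) := fun j => by
    have := hEdot j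
    rcases hEpm _ (hpS j) (hpo j) with e | e | e <;>
      rcases hEpm _ (hqS j) (hqo j) with e' | e' | e' <;> omega
  -- a common entry on which `E` agrees
  obtain ⟨s, u, η, hs, huS, huo, hEu, hηS, hηo, hηu, hηE, hAη⟩ :
      ∃ (s : ℤ) (u : ι) (η : Fin r → ι), (s = 1 ∨ s = -1) ∧ u ∈ S ∧ u ≠ o ∧ E u = s ∧
        (∀ j, η j ∈ S) ∧ (∀ j, η j ≠ o) ∧ (∀ j, η j ≠ u) ∧ (∀ j, E (η j) = 0) ∧
        ∀ j, ∀ x ∈ S, A j x =
          (if x = u then s else 0) - (if x = η j then s else 0) - (if x = o then 1 else 0) := by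
    let j₀ : Fin r := ⟨0, hr⟩
    have usep : (∀ j, p j = p j₀) → E (p j₀) = 1 → ∃ (s : ℤ) (u : ι) (η : Fin r → ι),
        (s = 1 ∨ s = -1) ∧ u ∈ S ∧ u ≠ o ∧ E u = s ∧
        (∀ j, η j ∈ S) ∧ (∀ j, η j ≠ o) ∧ (∀ j, η j ≠ u) ∧ (∀ j, E (η j) = 0) ∧
        ∀ j, ∀ x ∈ S, A j x =
          (if x = u then s else 0) - (if x = η j then s else 0) - (if x = o then 1 else 0) := by
      intro hp he
      refine ⟨1, p j₀, q, .inl rfl, hpS _, hpo _, he, hqS, hqo, fun j h => hpq j ((hp j).trans h.symm),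
        fun j => ?_, fun j x hx => ?_⟩
      · have := hEdot j; rw [hp j, he] at this; omega
      · rw [hAv j x hx, hp j]
    have useq : (∀ j, q j = q j₀) → E (q j₀) = -1 → ∃ (s : ℤ) (u : ι) (η : Fin r → ι),
        (s = 1 ∨ s = -1) ∧ u ∈ S ∧ u ≠ o ∧ E u = s ∧
        (∀ j, η j ∈ S) ∧ (∀ j, η j ≠ o) ∧ (∀ j, η j ≠ u) ∧ (∀ j, E (η j) = 0) ∧
        ∀ j, ∀ x ∈ S, A j x =
          (if x = u then s else 0) - (if x = η j then s else 0) - (if x = o then 1 else 0) := by
      intro hq he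
      refine ⟨-1, q j₀, p, .inr rfl, hqS _, hqo _, he, hpS, hpo, fun j h => hpq j (h.trans (hq j).symm),
        fun j => ?_, fun j x hx => ?_⟩
      · have := hEdot j; rw [hq j, he] at this; omega
      · rw [hAv j x hx, hq j]
        split_ifs <;> ring
    by_cases hr1 : r = 1
    · subst hr1
      rcases hEcases j₀ with ⟨e, -⟩ | ⟨-, e⟩
      · exact usep (fun j => congrArg p (Subsingleton.elim _ _)) e
      · exact useq (fun j => congrArg q (Subsingleton.elim _ _)) e
    have hr3 : 3 ≤ r := by omega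
    by_cases hall : ∀ j, p j = p j₀
    · rcases hEcases j₀ with ⟨e, -⟩ | ⟨e, -⟩
      · exact usep hall e
      -- every `q j` carries `-1`
      exfalso
      have hq' : ∀ j, E (q j) = -1 := fun j => by
        have := hEdot j; rw [hall j, e] at this; omega
      have hqinj : Function.Injective q := fun j k h => by
        by_contra hne
        rcases hshare j k hne with ⟨-, h2⟩ | ⟨h2, -⟩
        · exact h2 h
        · exact h2 ((hall j).trans (hall k).symm)
      set Q := Finset.univ.image q with hQ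
      have hQS : Q ⊆ S.erase o := fun x hx => by
        obtain ⟨j, -, rfl⟩ := Finset.mem_image.1 hx
        exact Finset.mem_erase.2 ⟨hqo j, hqS j⟩
      rw [← Finset.sum_sdiff hQS, Finset.sum_image hqinj.injOn,
        Finset.sum_congr rfl (s₁ := Finset.univ) (g := fun _ => (1 : ℤ)) fun j _ => by rw [hq' j]; norm_num,
        Finset.sum_const, Finset.card_univ, Fintype.card_fin, nsmul_eq_mul, mul_one] at hEE
      have hnn := Finset.sum_nonneg (s := S.erase o \ Q) fun x _ => mul_self_nonneg (E x)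
      have hzero : ∑ x ∈ S.erase o \ Q, E x * E x = 0 := by omega
      have hz : ∀ x ∈ S.erase o \ Q, E x = 0 := fun x hx => mul_self_eq_zero.1
        ((Finset.sum_eq_zero_iff_of_nonneg fun x _ => mul_self_nonneg (E x)).1 hzero x hx)
      rw [← Finset.add_sum_erase S _ ho, hE, hdo, ← Finset.sum_sdiff hQS,
        Finset.sum_eq_zero fun x hx => by rw [hz x hx, mul_zero], Finset.sum_image hqinj.injOn,
        Finset.sum_congr rfl (s₁ := Finset.univ) (g := fun j => -(d (q j) : ℤ)) fun j _ => by rw [hq' j]; ring,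
        Finset.sum_neg_distrib] at hdegE
      have hpos : 0 ≤ ∑ j : Fin r, (d (q j) : ℤ) := Finset.sum_nonneg fun j _ => Int.natCast_nonneg _
      push_cast at hdegE
      linarith
    · push Not at hall
      obtain ⟨k, hk⟩ := hall
      have hk0 : k ≠ j₀ := fun h => hk (h ▸ rfl)
      have hkq : q k = q j₀ := ((hshare k j₀ hk0).resolve_left fun h => hk h.1).2
      have hallq : ∀ j, q j = q j₀ := fun j => by
        by_cases hj : j = j₀
        · rw [hj]
        by_contra hne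
        have h1 := ((hshare j j₀ hj).resolve_right fun h => hne h.2).1
        by_cases hjk : j = k
        · exact hne (hjk ▸ hkq)
        rcases hshare j k hjk with ⟨h2, -⟩ | ⟨-, h2⟩
        · exact hk (h2.symm.trans h1)
        · exact hne (h2.trans hkq)
      rcases hEcases j₀ with ⟨-, e⟩ | ⟨-, e⟩
      · exfalso
        have hp' : ∀ j, E (p j) = 1 := fun j => by
          have := hEdot j; rw [hallq j, e] at this; omega
        have hpinj : Function.Injective p := fun j k h => by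
          by_contra hne
          rcases hshare j k hne with ⟨-, h2⟩ | ⟨h2, -⟩
          · exact h2 ((hallq j).trans (hallq k).symm)
          · exact h2 h
        set Q := Finset.univ.image p with hQ
        have hQS : Q ⊆ S.erase o := fun x hx => by
          obtain ⟨j, -, rfl⟩ := Finset.mem_image.1 hx
          exact Finset.mem_erase.2 ⟨hpo j, hpS j⟩
        rw [← Finset.sum_sdiff hQS, Finset.sum_image hpinj.injOn,
          Finset.sum_congr rfl (s₁ := Finset.univ) (g := fun _ => (1 : ℤ)) fun j _ => by rw [hp' j]; norm_num,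
          Finset.sum_const, Finset.card_univ, Fintype.card_fin, nsmul_eq_mul, mul_one] at hEE
        have hnn := Finset.sum_nonneg (s := S.erase o \ Q) fun x _ => mul_self_nonneg (E x)
        have hzero : ∑ x ∈ S.erase o \ Q, E x * E x = 0 := by omega
        have hz : ∀ x ∈ S.erase o \ Q, E x = 0 := fun x hx => mul_self_eq_zero.1
          ((Finset.sum_eq_zero_iff_of_nonneg fun x _ => mul_self_nonneg (E x)).1 hzero x hx)
        rw [← Finset.add_sum_erase S _ ho, hE, hdo, ← Finset.sum_sdiff hQS,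
          Finset.sum_eq_zero fun x hx => by rw [hz x hx, mul_zero], Finset.sum_image hpinj.injOn,
          Finset.sum_congr rfl (s₁ := Finset.univ) (g := fun j => (d (p j) : ℤ)) fun j _ => by rw [hp' j]; ring] at hdegE
        have hpos : (3 : ℤ) ≤ ∑ j : Fin r, (d (p j) : ℤ) := by
          have h := Finset.card_nsmul_le_sum Finset.univ (fun j : Fin r => (d (p j) : ℤ)) 1
            fun j _ => by exact_mod_cast hd (p j)
          rw [Finset.card_univ, Fintype.card_fin, nsmul_eq_mul, mul_one] at h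
          have : (3 : ℤ) ≤ r := by exact_mod_cast hr3
          linarith
        push_cast at hdegE
        linarith
      · exact useq hallq e
  have hηinj : Function.Injective η := fun j k h => by
    by_contra hne
    have h2 : ∑ x ∈ S, A j x * A k x = ∑ x ∈ S, A j x * A j x :=
      Finset.sum_congr rfl fun x hx => by rw [hAη k x hx, hAη j x hx, h]
    rw [hgram, hgram, if_neg hne, if_pos rfl] at h2
    norm_num at h2
  -- the rest of `E`
  have huU : u ∈ S.erase o := Finset.mem_erase.2 ⟨huo, huS⟩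
  rw [← Finset.add_sum_erase _ _ huU, hEu] at hEE
  set U := (S.erase o).erase u with hU
  have hrest : ∑ x ∈ U, E x * E x = 2 := by rcases hs with rfl | rfl <;> linarith
  set T := U.filter fun x => E x ≠ 0
  have hmemU : ∀ x ∈ U, x ∈ S ∧ x ≠ o ∧ x ≠ u := fun x hx =>
    ⟨(Finset.mem_erase.1 (Finset.mem_erase.1 hx).2).2, (Finset.mem_erase.1 (Finset.mem_erase.1 hx).2).1,
      (Finset.mem_erase.1 hx).1⟩
  have hpmT : ∀ x ∈ T, E x = 1 ∨ E x = -1 := fun x hx => by
    obtain ⟨hxU, hx0⟩ := Finset.mem_filter.1 hx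
    exact (hEpm x (hmemU x hxU).1 (hmemU x hxU).2.1).resolve_left hx0
  have hT : ∑ x ∈ T, E x * E x = 2 := by
    rw [← hrest]
    exact Finset.sum_subset (Finset.filter_subset _ _) fun x hx hx' => by
      rw [not_not.1 fun h => hx' (Finset.mem_filter.2 ⟨hx, h⟩)]; norm_num
  rw [Finset.sum_congr rfl (g := fun _ => (1 : ℤ)) fun x hx => by
    rcases hpmT x hx with e | e <;> rw [e] <;> norm_num, Finset.sum_const, nsmul_eq_mul,
    mul_one] at hT
  obtain ⟨b, c, hbc, hTbc⟩ := Finset.card_eq_two.1 (show T.card = 2 by exact_mod_cast hT)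
  have hb : b ∈ T := by rw [hTbc]; simp
  have hc : c ∈ T := by rw [hTbc]; simp
  obtain ⟨hbS, hbo, hbu⟩ := hmemU b (Finset.mem_filter.1 hb).1
  obtain ⟨hcS, hco, hcu⟩ := hmemU c (Finset.mem_filter.1 hc).1
  refine ⟨u, b, c, s, E b, E c, η, hs, hpmT b hb, hpmT c hc, huS, hbS, hcS, huo, hbo, hco, hbu.symm,
    hcu.symm, hbc, hηinj, fun j => ⟨hηS j, hηo j, hηu j,
      fun h => (Finset.mem_filter.1 hb).2 (h ▸ hηE j),
      fun h => (Finset.mem_filter.1 hc).2 (h ▸ hηE j)⟩, hAη, fun x hx => ?_⟩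
  by_cases h1 : x = u
  · subst h1; rw [if_pos rfl, if_neg hbu.symm, if_neg hcu.symm, if_neg huo, hEu]; ring
  by_cases h2 : x = b
  · subst h2; rw [if_neg h1, if_pos rfl, if_neg hbc, if_neg hbo]; ring
  by_cases h3 : x = c
  · subst h3; rw [if_neg h1, if_neg h2, if_pos rfl, if_neg hco]; ring
  by_cases h4 : x = o
  · subst h4; rw [if_neg h1, if_neg h2, if_neg h3, if_pos rfl, hE]; norm_num
  rw [if_neg h1, if_neg h2, if_neg h3, if_neg h4]
  by_contra h
  have : x ∈ T := Finset.mem_filter.2 ⟨Finset.mem_erase.2 ⟨h1, Finset.mem_erase.2 ⟨h4, hx⟩⟩, by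
    simpa using h⟩
  rw [hTbc] at this
  simp [h2, h3] at this

end Cfsg.Agent.Block.Dih
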