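import Cfsg.Agent.Lib.Block.Dihedral.Core
import Cfsg.Agent.Lib.Block.Dihedral.Coef

/-!
The principal 2-block of a group with a dihedral Sylow 2-subgroup.
-/

open scoped ComplexConjugate IsMulCommutative

namespace Cfsg.Agent.Block.Dih

set_option linter.unusedSectionVars false
set_option linter.style.haveILetI false

universe u

variable {G : Type u} [Group G] [Finite G] {M : Ideal AlgInt} {P : Sylow 2 G} {σ : G} {m : ℕ}

/-- The value at an involution is an integer of the parity of the degree. -/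
theorem char_involution_parity (χ : IrrCharacter G) {z : G} (hz : z * z = 1) :
    ∃ n : ℤ, (χ : G → ℂ) z = n ∧ 2 ∣ (charDegree (χ : G → ℂ) : ℤ) - n := by
  classical
  obtain ⟨d, ρ, hρ⟩ := irr_isChar χ
  obtain ⟨b, c, -, hc, hk⟩ := Cfsg.Agent.Char.exists_rep_eigenbasis ρ z
  have h1 := hk 1
  simp only [pow_one] at h1
  have h0 := hk 0
  simp only [pow_zero] at h0
  have h2 : ∀ i, c i = 1 ∨ c i = -1 := fun i => by
    obtain ⟨j, hj⟩ := orderOf_dvd_of_pow_eq_one (x := z) (n := 2) (by rw [_root_.pow_two, hz])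
    have : c i ^ 2 = 1 := by rw [hj, pow_mul, hc i, one_pow]
    rwa [sq_eq_one_iff] at this
  refine ⟨∑ i, (if c i = 1 then (1 : ℤ) else -1), ?_, ?_⟩
  · rw [← hρ, h1]
    push_cast
    refine Finset.sum_congr rfl fun i _ => ?_
    rcases h2 i with h | h <;> rw [h] <;> norm_num
  · have hd : (charDegree (χ : G → ℂ) : ℤ) =
        ∑ _i : Fin (Module.finrank ℂ (Fin d → ℂ)), (1 : ℤ) := by
      have h := charDeg_spec' χ
      rw [← hρ, h0, Finset.sum_const, nsmul_eq_mul, mul_one] at h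
      rw [Finset.sum_const, nsmul_eq_mul, mul_one, ← hρ]
      exact_mod_cast h.symm
    rw [hd, ← Finset.sum_sub_distrib]
    exact Finset.dvd_sum fun i _ => by split_ifs <;> norm_num

theorem Data.exists_half (h : Data P σ m) : ∃ r, m = 2 * (r + 1) ∧ 0 < r ∧ r ≠ 2 := by
  obtain ⟨k, hk⟩ := h.pow_two
  have h4 := h.four
  have hk2 : 2 ≤ k := by
    by_contra hc
    have : 2 ^ k ≤ 2 ^ 1 := Nat.pow_le_pow_right (by norm_num) (by omega)
    omega
  obtain ⟨k, rfl⟩ : ∃ j, k = j + 2 := ⟨k - 2, by omega⟩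
  refine ⟨2 * 2 ^ k - 1, ?_, ?_, ?_⟩
  · rw [hk, pow_add]
    have := Nat.one_le_two_pow (n := k)
    omega
  · have := Nat.one_le_two_pow (n := k)
    omega
  · omega

theorem Data.gen_pow_mem (_h : Data P σ m) (l : ℕ) : σ ^ l ∈ Subgroup.zpowers σ :=
  pow_mem (Subgroup.mem_zpowers σ) l

theorem Data.orderOf_half (h : Data P σ m) {r : ℕ} (hm : m = 2 * (r + 1)) :
    orderOf (σ ^ (r + 1)) = 2 := by
  rw [orderOf_pow_of_dvd (by omega) ⟨2, by rw [h.order, hm]; ring⟩, h.order, hm,
    Nat.mul_div_left _ (by omega)]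

theorem Data.rotation_involution (h : Data P σ m) {r : ℕ} (hm : m = 2 * (r + 1)) {w : G}
    (hw : w ∈ Subgroup.zpowers σ) (hww : w * w = 1) : w = 1 ∨ w = σ ^ (r + 1) := by
  obtain ⟨l, hl, rfl⟩ : ∃ l, l < m ∧ σ ^ l = w := by
    classical
    cases nonempty_fintype G
    rw [mem_zpowers_iff_mem_range_orderOf, Finset.mem_image] at hw
    obtain ⟨l, hl, hlw⟩ := hw
    exact ⟨l, h.order ▸ Finset.mem_range.1 hl, hlw⟩
  rw [← pow_add] at hww
  have hd := orderOf_dvd_of_pow_eq_one hww
  rw [h.order] at hd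
  obtain ⟨q, hq⟩ := hd
  rcases q with _ | _ | q
  · left; rw [show l = 0 by omega, pow_zero]
  · right; rw [show l = r + 1 by omega]
  · exfalso
    have : m * 2 ≤ m * (q + 1 + 1) := Nat.mul_le_mul_left _ (by omega)
    omega

/-- The centralizer of a reflection in `P` has at most four elements. -/
theorem Data.centralizer_reflection (h : Data P σ m) {r : ℕ} (hm : m = 2 * (r + 1)) {t : G}
    (ht : t ∈ (P : Subgroup G)) (htσ : t ∉ Subgroup.zpowers σ) {x : G} (hx : x ∈ (P : Subgroup G))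
    (hxt : x * t = t * x) :
    x = 1 ∨ x = σ ^ (r + 1) ∨ x = t ∨ x = σ ^ (r + 1) * t := by
  obtain ⟨htt, -, htc⟩ := (h.cases t ht).resolve_left htσ
  have key : ∀ y ∈ Subgroup.zpowers σ, y * t = t * y → y * y = 1 := by
    intro y hy hyt
    obtain ⟨k, rfl⟩ := Subgroup.mem_zpowers_iff.1 hy
    have e : t * σ ^ k * t⁻¹ = (σ ^ k)⁻¹ := by rw [← conj_zpow, htc, inv_zpow]
    rw [← hyt, mul_inv_cancel_right] at e
    exact eq_inv_iff_mul_eq_one.1 e
  rcases h.cases x hx with hxσ | ⟨-, -, hxc⟩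
  · rcases h.rotation_involution hm hxσ (key x hxσ hxt) with e | e
    · exact .inl e
    · exact .inr (.inl e)
  · have hmem : x * t ∈ (P : Subgroup G) := mul_mem hx ht
    have hrot : x * t ∈ Subgroup.zpowers σ := by
      refine (h.cases _ hmem).resolve_right fun e => ?_
      have e1 : x * t * σ * (x * t)⁻¹ = σ := by
        calc x * t * σ * (x * t)⁻¹ = x * (t * σ * t⁻¹) * x⁻¹ := by group
          _ = (x * σ * x⁻¹)⁻¹ := by rw [htc]; group
          _ = σ := by rw [hxc, inv_inv]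
      rw [e1, eq_inv_iff_mul_eq_one] at e
      have := orderOf_le_of_pow_eq_one (n := 2) (by norm_num)
        (show σ ^ 2 = 1 by rw [_root_.pow_two]; exact e.2.2)
      have h4 := h.four
      rw [h.order] at this
      omega
    have hc : x * t * t = t * (x * t) := by
      rw [← mul_assoc t x t, ← hxt]
    have ex : x = x * t * t := by rw [mul_assoc, htt, mul_one]
    rcases h.rotation_involution hm hrot (key _ hrot hc) with e | e
    · refine .inr (.inr (.inl ?_))
      rw [ex, e, one_mul]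
    · refine .inr (.inr (.inr ?_))
      rw [ex, e]

/-- An involution is fused to the central one or has small centralizer. -/
theorem Data.involution_cases (h : Data P σ m) {r : ℕ} (hm : m = 2 * (r + 1)) {z : G}
    (hz : orderOf z = 2) :
    IsConj z (σ ^ (r + 1)) ∨
      2 ^ (Nat.card (Subgroup.centralizer ({z} : Set G))).factorization 2 ≤ 4 := by
  classical
  haveI : Fact (Nat.Prime 2) := ⟨Nat.prime_two⟩
  by_cases hconj : IsConj z (σ ^ (r + 1))
  · exact .inl hconj
  right
  set C := Subgroup.centralizer ({z} : Set G)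
  have hA : IsPGroup 2 ↥((Subgroup.zpowers z).subgroupOf C) :=
    (IsPGroup.of_card (p := 2) (n := 1) (by
      rw [Nat.card_zpowers, hz, pow_one]) : IsPGroup 2 (Subgroup.zpowers z)).comap_subtype
  obtain ⟨Q, hQ⟩ := hA.exists_le_sylow
  rw [← Sylow.card_eq_multiplicity Q]
  obtain ⟨R, hR⟩ := (Q.isPGroup'.map C.subtype).exists_le_sylow
  obtain ⟨c, hc⟩ := MulAction.exists_smul_eq G R P
  have hmem : ∀ w ∈ (R : Subgroup G), c * w * c⁻¹ ∈ (P : Subgroup G) := fun w hw => by
    rw [← hc]; exact ⟨w, hw, rfl⟩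
  set t := c * z * c⁻¹ with ht
  have htP : t ∈ (P : Subgroup G) := hmem z (hR ⟨⟨z, centralizer_self_mem z⟩,
    hQ (Subgroup.mem_subgroupOf.2 (Subgroup.mem_zpowers z)), rfl⟩)
  have htσ : t ∉ Subgroup.zpowers σ := by
    intro hh
    have htt : t * t = 1 := by
      rw [ht, show c * z * c⁻¹ * (c * z * c⁻¹) = c * (z * z) * c⁻¹ by group,
        show z * z = 1 by rw [← _root_.pow_two, ← hz, pow_orderOf_eq_one]]
      group
    rcases h.rotation_involution hm hh htt with e | e
    · rw [conj_eq_one_iff.1 e, orderOf_one] at hz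
      omega
    · exact hconj (isConj_iff.2 ⟨c, e⟩)
  let T : Finset G := {1, σ ^ (r + 1), t, σ ^ (r + 1) * t}
  let f : ↥(Q : Subgroup C) → ↥T := fun q => ⟨c * ((q : C) : G) * c⁻¹, by
    have hq := Subgroup.mem_centralizer_singleton_iff.1 (q : C).2
    simp only [T, Finset.mem_insert, Finset.mem_singleton]
    refine h.centralizer_reflection hm htP htσ (hmem _ (hR ⟨q, q.2, rfl⟩)) ?_
    rw [ht]
    calc c * ((q : C) : G) * c⁻¹ * (c * z * c⁻¹) = c * (((q : C) : G) * z) * c⁻¹ := by group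
      _ = c * (z * ((q : C) : G)) * c⁻¹ := by rw [hq]
      _ = _ := by group⟩
  have hf : Function.Injective f := fun a b e => by
    have := congrArg Subtype.val e
    simp only [f, mul_left_inj, mul_right_inj] at this
    exact Subtype.ext (Subtype.ext this)
  refine (Nat.card_le_card_of_injective f hf).trans ?_
  rw [Nat.card_eq_finsetCard]
  exact Finset.card_le_four

/-- The principal block. -/
theorem dihedral_block (hM : IsPModular 2 M) (h : Data P σ m) {r : ℕ} (hm : m = 2 * (r + 1))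
    (hr0 : 0 < r) (hr2 : r ≠ 2) {ζ : ℂ} (hζ : IsPrimitiveRoot ζ m) :
    ∃ (a b c : IrrCharacter G) (η : Fin r → IrrCharacter G) (δ₁ δ₂ δ₃ : ℤ),
      (δ₁ = 1 ∨ δ₁ = -1) ∧ (δ₂ = 1 ∨ δ₂ = -1) ∧ (δ₃ = 1 ∨ δ₃ = -1) ∧ Function.Injective η ∧
      a ≠ trivialIrr G ∧ b ≠ trivialIrr G ∧ c ≠ trivialIrr G ∧ a ≠ b ∧ a ≠ c ∧ b ≠ c ∧
      (∀ j, η j ≠ a ∧ η j ≠ b ∧ η j ≠ c ∧ η j ≠ trivialIrr G) ∧
      principalBlock M G = {χ : IrrCharacter G | χ = trivialIrr G ∨ χ = a ∨ χ = b ∨ χ = c ∨
        ∃ j, χ = η j} ∧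
      Nat.card (principalBlock M G) = r + 4 ∧
      (∀ l : ℕ, 0 < l → l < m → (a : G → ℂ) (σ ^ l) = δ₁ ∧
        (b : G → ℂ) (σ ^ l) = δ₂ * (-1) ^ (l + 1) ∧ (c : G → ℂ) (σ ^ l) = δ₃ * (-1) ^ (l + 1) ∧
        ∀ j : Fin r, (η j : G → ℂ) (σ ^ l) =
          δ₁ * (ζ ^ (((j : ℕ) + 1) * l) + (ζ ^ (((j : ℕ) + 1) * l))⁻¹)) ∧
      ∀ ρ : G, Odd (orderOf ρ) → ∀ j : Fin r,
        1 + (δ₁ : ℂ) * (a : G → ℂ) ρ = -(δ₂ : ℂ) * (b : G → ℂ) ρ - (δ₃ : ℂ) * (c : G → ℂ) ρ ∧
        1 + (δ₁ : ℂ) * (a : G → ℂ) ρ = (δ₁ : ℂ) * (η j : G → ℂ) ρ := by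
  classical
  haveI : Fact (Nat.Prime 2) := ⟨Nat.prime_two⟩
  haveI : NeZero m := ⟨by omega⟩
  cases nonempty_fintype G
  haveI := lin_finite (H := Subgroup.zpowers σ)
  cases nonempty_fintype (Subgroup.zpowers σ →* ℂˣ)
  set u : ℂˣ := (hζ.isUnit (by omega)).unit with hu
  have hum : u ^ m = 1 := Units.ext (by rw [Units.val_pow_eq_pow_val, hu, IsUnit.unit_spec,
    hζ.pow_eq_one, Units.val_one])
  set g : Subgroup.zpowers σ := ⟨σ, Subgroup.mem_zpowers σ⟩ with hg
  have hgen : ∀ y : Subgroup.zpowers σ, y ∈ Subgroup.zpowers g := by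
    rintro ⟨y, k, rfl⟩
    exact ⟨k, Subtype.ext (by simp [hg])⟩
  have hgo : orderOf g = m := by rw [hg, Subgroup.orderOf_mk, h.order]
  let lin : ℕ → (Subgroup.zpowers σ →* ℂˣ) := fun k =>
    monoidHomOfForallMemZpowers hgen (g' := u ^ k) (by
      rw [hgo]
      exact orderOf_dvd_of_pow_eq_one (by rw [← pow_mul, mul_comm, pow_mul, hum, one_pow]))
  have hlin : ∀ k l : ℕ, ((lin k (g ^ l) : ℂˣ) : ℂ) = ζ ^ (k * l) := fun k l => by
    rw [map_pow, show lin k g = u ^ k from monoidHomOfForallMemZpowers_apply_gen _ _,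
      ← pow_mul, Units.val_pow_eq_pow_val, hu, IsUnit.unit_spec]
  have hhom : ∀ φ φ' : Subgroup.zpowers σ →* ℂˣ, ((φ g : ℂˣ) : ℂ) = φ' g → φ = φ' := fun φ φ' e =>
    MonoidHom.ext fun y => by
      obtain ⟨k, rfl⟩ := Subgroup.mem_zpowers_iff.1 (hgen y)
      rw [map_zpow, map_zpow, Units.ext e]
  have hlin1 : ∀ k, ((lin k g : ℂˣ) : ℂ) = ζ ^ k := fun k => by
    simpa using hlin k 1
  have hinj : ∀ i j, i < m → j < m → lin i = lin j → i = j := fun i j hi hj e =>
    hζ.pow_inj hi hj (by rw [← hlin1, ← hlin1, e])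
  have hlin0 : lin 0 = 1 := hhom _ _ (by rw [hlin1, pow_zero, MonoidHom.one_apply, Units.val_one])
  have hne1 : ∀ k, 0 < k → k < m → lin k ≠ 1 := fun k hk hkm e => by
    have := hinj k 0 hkm (by omega) (e.trans hlin0.symm)
    omega
  have hneg : ∀ k, k ≤ m → lin (m - k) = (lin k)⁻¹ := fun k hk => hhom _ _ (by
    rw [MonoidHom.inv_apply, Units.val_inv_eq_inv_val, hlin1, hlin1]
    refine eq_inv_of_mul_eq_one_left ?_
    rw [← pow_add, Nat.sub_add_cancel hk, hζ.pow_eq_one])
  have hsurj : ∀ φ : Subgroup.zpowers σ →* ℂˣ, ∃ k < m, lin k = φ := fun φ => by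
    obtain ⟨k, hk, e⟩ := hζ.eq_pow_of_pow_eq_one (ξ := ((φ g : ℂˣ) : ℂ)) (by
      rw [← Units.val_pow_eq_pow_val, ← map_pow, ← hgo, pow_orderOf_eq_one, map_one,
        Units.val_one])
    exact ⟨k, hk, hhom _ _ (by rw [hlin1, e])⟩
  -- sums over the dual
  have hdual : ∀ F : (Subgroup.zpowers σ →* ℂˣ) → ℂ,
      ∑ φ, F φ = ∑ k ∈ Finset.range m, F (lin k) := fun F => by
    refine (Finset.sum_bij (fun k _ => lin k) (fun k _ => Finset.mem_univ _)
      (fun i hi j hj e => hinj i j (Finset.mem_range.1 hi) (Finset.mem_range.1 hj) e)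
      (fun φ _ => ?_) (fun k _ => rfl)).symm
    obtain ⟨k, hk, e⟩ := hsurj φ
    exact ⟨k, Finset.mem_range.2 hk, e⟩
  have hsplit : ∀ f : ℕ → ℂ, ∑ k ∈ Finset.range m, f k =
      f 0 + f (r + 1) + ∑ j : Fin r, (f ((j : ℕ) + 1) + f (m - ((j : ℕ) + 1))) := fun f => by
    rw [Fin.sum_univ_eq_sum_range (fun j => f (j + 1) + f (m - (j + 1))) r,
      Finset.sum_add_distrib, show Finset.range m = Finset.range (r + 2 + r) by congr 1; omega,
      Finset.sum_range_add, Finset.sum_range_succ, Finset.sum_range_succ']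
    rw [show ∑ x ∈ Finset.range r, f (r + 2 + x) = ∑ j ∈ Finset.range r, f (m - (j + 1)) by
      rw [← Finset.sum_range_reflect]
      exact Finset.sum_congr rfl fun j hj => congrArg f (by
        have := Finset.mem_range.1 hj; omega)]
    ring
  have hhalf : ζ ^ (r + 1) = -1 := by
    have h1 : (ζ ^ (r + 1)) ^ 2 = 1 := by
      rw [← pow_mul, show (r + 1) * 2 = m by omega, hζ.pow_eq_one]
    exact (sq_eq_one_iff.1 h1).resolve_left (hζ.pow_ne_one_of_pos_of_lt (by omega) (by omega))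
  have hterm : ∀ j : Fin r, ∀ l, ζ ^ ((m - ((j : ℕ) + 1)) * l) = (ζ ^ (((j : ℕ) + 1) * l))⁻¹ :=
    fun j l => eq_inv_of_mul_eq_one_left (by
      rw [← pow_add, ← add_mul, Nat.sub_add_cancel (by omega), pow_mul, hζ.pow_eq_one, one_pow])
  have hroot : ∀ l, 0 < l → l < m →
      ∑ j : Fin r, (ζ ^ (((j : ℕ) + 1) * l) + (ζ ^ (((j : ℕ) + 1) * l))⁻¹) = -1 - (-1) ^ l := by
    intro l hl hlm
    have hs : ∑ k ∈ Finset.range m, ζ ^ (k * l) = 0 := by
      rw [Finset.sum_congr rfl fun k _ => by rw [mul_comm k l, pow_mul]]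
      refine (mul_eq_zero.1 ?_).resolve_right (sub_ne_zero.2 (hζ.pow_ne_one_of_pos_of_lt hl.ne' hlm))
      rw [geom_sum_mul, ← pow_mul, mul_comm, pow_mul, hζ.pow_eq_one, one_pow, sub_self]
    rw [hsplit, Nat.zero_mul, pow_zero, pow_mul ζ (r + 1) l, hhalf] at hs
    simp only [hterm] at hs
    linear_combination hs
  -- coefficients
  choose A hA using fun (j : Fin r) (χ : IrrCharacter G) =>
    dcoef_int (σ := σ) χ (lin ((j : ℕ) + 1))
  choose E hE using fun χ : IrrCharacter G => dcoef_int (σ := σ) χ (lin (r + 1))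
  have hval : ∀ (χ : IrrCharacter G) (l : ℕ), 0 < l → l < m → (χ : G → ℂ) (σ ^ l) =
      ∑ j : Fin r, (A j χ : ℂ) * (ζ ^ (((j : ℕ) + 1) * l) + (ζ ^ (((j : ℕ) + 1) * l))⁻¹) +
        (E χ : ℂ) * (-1) ^ l := by
    intro χ l hl hlm
    have hy : g ^ l ≠ 1 := pow_ne_one_of_lt_orderOf hl.ne' (hgo.symm ▸ hlm)
    have e : σ ^ l = ((g ^ l : Subgroup.zpowers σ) : G) := by simp [hg]
    rw [e, value_eq_dcoef χ hy, hdual, hsplit, hlin0, dcoef_one, zero_mul, zero_add, hlin,
      pow_mul ζ (r + 1) l, hhalf, hE, add_comm]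
    congr 1
    refine Finset.sum_congr rfl fun j _ => ?_
    rw [hneg _ (by omega), h.dcoef_inv, hA, ← hneg _ (by omega), hlin, hlin, hterm]
    ring
  set S := Finset.univ.filter (fun χ : IrrCharacter G => χ ∈ principalBlock M G) with hS
  have hmem : ∀ χ, χ ∈ S ↔ χ ∈ principalBlock M G := fun χ => by simp [hS]
  have ho : trivialIrr G ∈ S := (hmem _).2 (trivial_mem_principalBlock hM)
  have hjm : ∀ j : Fin r, (j : ℕ) + 1 < m := fun j => by omega
  have hninv : ∀ a b, 0 < a → a < m → 0 < b → b < m → a + b ≠ m → lin a ≠ (lin b)⁻¹ :=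
    fun a b ha ham hb hbm hab e => by
      rw [← hneg b hbm.le] at e
      have := hinj a (m - b) ham (by omega) e
      omega
  obtain ⟨a, b, c, s, s₂, s₃, η, hs, hs₂, hs₃, haS, hbS, hcS, hao, hbo, hco, hab, hac, hbc, hηinj,
      hη, hAv, hEv⟩ :=
    dih_core hr0 hr2 S ho A E (fun χ => charDegree (χ : G → ℂ)) (fun χ => charDeg_pos χ)
      (by
        rw [show ((trivialIrr G : IrrCharacter G) : G → ℂ) = fun _ => (1 : ℂ) from rfl,
          charDeg_trivial])
      (fun j => by
        have e := hA j (trivialIrr G)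
        rw [dcoef_trivial (hne1 _ (by omega) (hjm j))] at e
        exact_mod_cast e.symm)
      (by
        have e := hE (trivialIrr G)
        rw [dcoef_trivial (hne1 _ (by omega) (by omega))] at e
        exact_mod_cast e.symm)
      (fun j k => by
        have e := h.dcoef_gram hM (ψ := lin ((j : ℕ) + 1)) (φ := lin ((k : ℕ) + 1))
          (hne1 _ (by omega) (hjm j)) (hne1 _ (by omega) (hjm k))
        rw [if_neg (hninv _ _ (by omega) (hjm j) (by omega) (hjm k) (by omega))] at e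
        simp only [hA, map_intCast, finsum_mem_block, add_zero] at e
        by_cases hjk : j = k
        · rw [if_pos (by rw [hjk])] at e
          rw [if_pos hjk]
          exact_mod_cast e
        · rw [if_neg fun he => hjk (Fin.ext (by have := hinj _ _ (hjm j) (hjm k) he; omega))] at e
          rw [if_neg hjk]
          exact_mod_cast e)
      (fun j => by
        have e := h.dcoef_gram hM (ψ := lin ((j : ℕ) + 1)) (φ := lin (r + 1))
          (hne1 _ (by omega) (hjm j)) (hne1 _ (by omega) (by omega))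
        rw [if_neg (hninv _ _ (by omega) (hjm j) (by omega) (by omega) (by omega)),
          if_neg fun he => by have := hinj _ _ (hjm j) (by omega) he; omega] at e
        simp only [hA, hE, map_intCast, finsum_mem_block, add_zero, zero_add] at e
        exact_mod_cast e)
      (by
        have e := h.dcoef_gram hM (ψ := lin (r + 1)) (φ := lin (r + 1))
          (hne1 _ (by omega) (by omega)) (hne1 _ (by omega) (by omega))
        rw [if_pos rfl, if_pos (by rw [← hneg _ (by omega)]; congr 1; omega)] at e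
        simp only [hE, map_intCast, finsum_mem_block] at e
        norm_num at e
        exact_mod_cast e)
      (fun j => by
        have e := h.dcoef_orth hM (lin ((j : ℕ) + 1)) (g := 1) (by simp)
        simp only [hA, charDeg_spec', finsum_mem_block] at e
        rw [Finset.sum_congr rfl fun (χ : IrrCharacter G) _ =>
          mul_comm ((charDegree (χ : G → ℂ) : ℕ) : ℤ) (A j χ)]
        exact_mod_cast e)
      (by
        have e := h.dcoef_orth hM (lin (r + 1)) (g := 1) (by simp)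
        simp only [hE, charDeg_spec', finsum_mem_block] at e
        rw [Finset.sum_congr rfl fun (χ : IrrCharacter G) _ =>
          mul_comm ((charDegree (χ : G → ℂ) : ℕ) : ℤ) (E χ)]
        exact_mod_cast e)
  have hAa : ∀ j, A j a = s := fun j => by
    rw [hAv j a haS, if_pos rfl, if_neg (hη j).2.2.1.symm, if_neg hao]; ring
  have hAz : ∀ j x, x ∈ S → x ≠ a → x ≠ trivialIrr G → A j x = if x = η j then -s else 0 := by
    intro j x hx h1 h2
    rw [hAv j x hx, if_neg h1, if_neg h2]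
    split_ifs <;> ring
  have va : ∀ l, 0 < l → l < m → (a : G → ℂ) (σ ^ l) = ((-s : ℤ) : ℂ) := fun l hl hlm => by
    rw [hval a l hl hlm, hEv a haS, if_pos rfl, if_neg hab, if_neg hac, if_neg hao]
    simp only [hAa]
    rw [← Finset.mul_sum, hroot l hl hlm]
    push_cast
    ring
  have vz : ∀ x, x ∈ S → x ≠ a → x ≠ trivialIrr G → (∀ j, x ≠ η j) → ∀ l, 0 < l → l < m →
      (x : G → ℂ) (σ ^ l) = (E x : ℂ) * (-1) ^ l := fun x hx h1 h2 h3 l hl hlm => by
    rw [hval x l hl hlm, Finset.sum_eq_zero fun j _ => by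
      rw [hAz j x hx h1 h2, if_neg (h3 j)]; simp]
    ring
  have vb : ∀ l, 0 < l → l < m → (b : G → ℂ) (σ ^ l) = ((-s₂ : ℤ) : ℂ) * (-1) ^ (l + 1) :=
    fun l hl hlm => by
    rw [vz b hbS hab.symm hbo (fun j => (hη j).2.2.2.1.symm) l hl hlm, hEv b hbS, if_neg hab.symm,
      if_pos rfl, if_neg hbc, if_neg hbo]
    push_cast
    ring
  have vc : ∀ l, 0 < l → l < m → (c : G → ℂ) (σ ^ l) = ((-s₃ : ℤ) : ℂ) * (-1) ^ (l + 1) :=
    fun l hl hlm => by
    rw [vz c hcS hac.symm hco (fun j => (hη j).2.2.2.2.symm) l hl hlm, hEv c hcS, if_neg hac.symm,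
      if_neg hbc.symm, if_pos rfl, if_neg hco]
    push_cast
    ring
  -- exhaustion
  have hexh : ∀ x ∈ S, x = trivialIrr G ∨ x = a ∨ x = b ∨ x = c ∨ ∃ j, x = η j := by
    intro x hx
    by_contra hno
    push Not at hno
    obtain ⟨hxo, hxa, hxb, hxc, hxη⟩ := hno
    have hrot : ∀ l, 0 < l → l < m → (x : G → ℂ) (σ ^ l) = 0 := fun l hl hlm => by
      rw [vz x hx hxa hxo hxη l hl hlm, hEv x hx, if_neg hxa, if_neg hxb, if_neg hxc, if_neg hxo]
      simp
    have hvan : ∀ z : G, orderOf z = 2 → (x : G → ℂ) z = 0 := by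
      intro z hz
      rcases h.involution_cases hm hz with hc' | hsmall
      · rw [Cfsg.Agent.Char.IsClass.eq_of_isConj (irr_classFun x) hc']
        exact hrot _ (by omega) (by omega)
      have hzz : z * z = 1 := by rw [← _root_.pow_two, ← hz, pow_orderOf_eq_one]
      choose n hn hpar using fun χ : IrrCharacter G => char_involution_parity χ hzz
      have hJ := h.orderOf_half hm
      have hJJ : σ ^ (r + 1) * σ ^ (r + 1) = 1 := by
        rw [← _root_.pow_two, ← hJ, pow_orderOf_eq_one]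
      have hodd : ∀ (χ : IrrCharacter G) (v : ℤ), (χ : G → ℂ) (σ ^ (r + 1)) = v →
          (v = 1 ∨ v = -1) → n χ % 2 = 1 := fun χ v hv hv1 => by
        obtain ⟨n', hn', hp'⟩ := char_involution_parity χ hJJ
        rw [hv] at hn'
        have : v = n' := by exact_mod_cast hn'
        have := hpar χ
        rcases hv1 with hv1 | hv1 <;> omega
      have hsgn : ∀ v : ℤ, (v = 1 ∨ v = -1) → (-v) * (-1) ^ (r + 1 + 1) = 1 ∨
          (-v) * (-1) ^ (r + 1 + 1) = -1 := fun v hv => by
        rcases neg_one_pow_eq_or ℤ (r + 1 + 1) with e | e <;> rcases hv with rfl | rfl <;>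
          rw [e] <;> norm_num
      have no : n (trivialIrr G) % 2 = 1 := hodd _ 1 (by simp [trivialIrr]) (.inl rfl)
      have na : n a % 2 = 1 := hodd a (-s) (va _ (by omega) (by omega)) (by omega)
      have nb : n b % 2 = 1 := hodd b (-s₂ * (-1) ^ (r + 1 + 1))
        (by rw [vb _ (by omega) (by omega)]; push_cast; ring) (hsgn s₂ hs₂)
      have nc : n c % 2 = 1 := hodd c (-s₃ * (-1) ^ (r + 1 + 1))
        (by rw [vc _ (by omega) (by omega)]; push_cast; ring) (hsgn s₃ hs₃)
      have hcol := h.column_involution hM hz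
      simp only [hn, map_intCast, finsum_mem_block] at hcol
      have hcol' : ∑ χ ∈ S, n χ * n χ ≤ 4 := by
        have : ((∑ χ ∈ S, n χ * n χ : ℤ) : ℂ) =
            (((2 ^ (Nat.card (Subgroup.centralizer ({z} : Set G))).factorization 2 : ℕ) : ℤ) : ℂ) := by
          rw [Int.cast_sum, Int.cast_natCast]
          simpa only [Int.cast_mul] using hcol
        rw [Int.cast_injective this]
        exact_mod_cast hsmall
      have hsq : ∀ k : ℤ, k % 2 = 1 → 1 ≤ k * k := fun k hk => by
        have : 0 < k * k := mul_self_pos.2 (by omega)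
        omega
      have hle := Finset.sum_le_sum_of_subset_of_nonneg
        (s := {trivialIrr G, a, b, c, x}) (t := S) (f := fun χ => n χ * n χ)
        (by simp only [Finset.insert_subset_iff, Finset.singleton_subset_iff]
            exact ⟨ho, haS, hbS, hcS, hx⟩)
        (fun χ _ _ => mul_self_nonneg (n χ))
      rw [Finset.sum_insert (by simp [hao.symm, hbo.symm, hco.symm, hxo.symm]),
        Finset.sum_insert (by simp [hab, hac, hxa.symm]),
        Finset.sum_insert (by simp [hbc, hxb.symm]),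
        Finset.sum_insert (by simp [hxc.symm]), Finset.sum_singleton] at hle
      have h1 := hsq _ no
      have h2 := hsq _ na
      have h3 := hsq _ nb
      have h4 := hsq _ nc
      have h5 : n x * n x = 0 := le_antisymm (by linarith) (mul_self_nonneg _)
      rw [hn x, mul_self_eq_zero.1 h5]
      simp
    have hfull := degree_full_of_vanish x hvan
    have hGf : 1 ≤ (Nat.card G).factorization 2 :=
      (Nat.prime_two.dvd_iff_one_le_factorization Nat.card_pos.ne').1
        (h.orderOf_half hm ▸ orderOf_dvd_natCard _)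
    have h1 := pTors_omega_one hM x hfull
    have h2 := pTors_omega_ideal (p := 2) hM (trivialIrr G) (by
      rw [show ((trivialIrr G : IrrCharacter G) : G → ℂ) = fun _ => (1 : ℂ) from rfl,
        charDeg_trivial, Nat.factorization_one, Finsupp.zero_apply]
      omega)
    have hcen : CenInt M (fun ξ : IrrCharacter G => omegaFun ξ (pTorsInd 2)) := fun g => by
      rw [coeffFun_omegaFun pTorsInd_classFun]
      simp only [pTorsInd]
      split_ifs
      · exact ring_one hM
      · exact ring_zero hM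
    have h3 := hcen.congr_block hM (pblock_sameBlock hM isPBlock_principalBlock
      (trivial_mem_principalBlock hM) ((hmem x).1 hx))
    exact ideal_one hM (h1 ▸ (ideal_congr hM h3).1 h2)
  have hset : principalBlock M G = {χ : IrrCharacter G | χ = trivialIrr G ∨ χ = a ∨ χ = b ∨
      χ = c ∨ ∃ j, χ = η j} := by
    ext χ
    refine ⟨fun hχ => hexh χ ((hmem χ).2 hχ), ?_⟩
    rintro (rfl | rfl | rfl | rfl | ⟨j, rfl⟩) <;> refine (hmem _).1 ?_
    exacts [ho, haS, hbS, hcS, (hη j).1]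
  refine ⟨a, b, c, η, -s, -s₂, -s₃, by omega, by omega, by omega, hηinj, hao, hbo, hco, hab, hac,
    hbc, fun j => ⟨(hη j).2.2.1, (hη j).2.2.2.1, (hη j).2.2.2.2, (hη j).2.1⟩, hset, ?_,
    fun l hl hlm => ⟨va l hl hlm, vb l hl hlm, vc l hl hlm, fun j => ?_⟩, fun ρ hρ j => ?_⟩
  · rw [show principalBlock M G = ((insert (trivialIrr G) (insert a (insert b (insert c
      (Finset.univ.image η)))) : Finset (IrrCharacter G)) : Set (IrrCharacter G)) by
        rw [hset]; ext χ; simp [eq_comm],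
      Nat.card_coe_set_eq, Set.ncard_coe_finset,
      Finset.card_insert_of_notMem (by simp [hao.symm, hbo.symm, hco.symm, fun j => (hη j).2.1]),
      Finset.card_insert_of_notMem (by simp [hab, hac, fun j => (hη j).2.2.1]),
      Finset.card_insert_of_notMem (by simp [hbc, fun j => (hη j).2.2.2.1]),
      Finset.card_insert_of_notMem (by simp [fun j => (hη j).2.2.2.2]),
      Finset.card_image_of_injective _ hηinj, Finset.card_univ, Fintype.card_fin]
  · obtain ⟨hjS, hjo, hja, hjb, hjc⟩ := hη j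
    rw [hval (η j) l hl hlm, hEv _ hjS, if_neg hja, if_neg hjb, if_neg hjc, if_neg hjo,
      Finset.sum_eq_single j (fun k _ hk => by
        rw [hAz k _ hjS hja hjo, if_neg fun e => hk (hηinj e).symm]; simp)
        (fun hh => absurd (Finset.mem_univ j) hh), hAz j _ hjS hja hjo, if_pos rfl]
    push_cast
    ring
  · have hρ2 : ¬ 2 ∣ orderOf ρ := hρ.not_two_dvd_nat
    have e1 := h.dcoef_orth hM (lin ((j : ℕ) + 1)) hρ2
    have e2 := h.dcoef_orth hM (lin (r + 1)) hρ2
    simp only [hA, hE, finsum_mem_block] at e1 e2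
    have c1 : ∀ χ ∈ S, (A j χ : ℂ) * (χ : G → ℂ) ρ =
        (if χ = a then (s : ℂ) * (χ : G → ℂ) ρ else 0) -
          (if χ = η j then (s : ℂ) * (χ : G → ℂ) ρ else 0) -
          (if χ = trivialIrr G then (χ : G → ℂ) ρ else 0) := fun χ hχ => by
      rw [hAv j χ hχ]; push_cast
      simp only [sub_mul, ite_mul, one_mul, zero_mul]
    have c2 : ∀ χ ∈ S, (E χ : ℂ) * (χ : G → ℂ) ρ =
        (if χ = a then (s : ℂ) * (χ : G → ℂ) ρ else 0) +
          (if χ = b then (s₂ : ℂ) * (χ : G → ℂ) ρ else 0) +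
          (if χ = c then (s₃ : ℂ) * (χ : G → ℂ) ρ else 0) -
          (if χ = trivialIrr G then (χ : G → ℂ) ρ else 0) := fun χ hχ => by
      rw [hEv χ hχ]; push_cast
      simp only [add_mul, sub_mul, ite_mul, one_mul, zero_mul]
    rw [Finset.sum_congr rfl c1, Finset.sum_sub_distrib, Finset.sum_sub_distrib,
      Finset.sum_ite_eq' S, Finset.sum_ite_eq' S, Finset.sum_ite_eq' S, if_pos haS,
      if_pos (hη j).1, if_pos ho] at e1
    rw [Finset.sum_congr rfl c2, Finset.sum_sub_distrib, Finset.sum_add_distrib,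
      Finset.sum_add_distrib, Finset.sum_ite_eq' S, Finset.sum_ite_eq' S, Finset.sum_ite_eq' S,
      Finset.sum_ite_eq' S, if_pos haS, if_pos hbS, if_pos hcS, if_pos ho] at e2
    rw [show ((trivialIrr G : IrrCharacter G) : G → ℂ) ρ = 1 from rfl] at e1 e2
    push_cast
    exact ⟨by linear_combination -e2, by linear_combination -e1⟩

end Cfsg.Agent.Block.Dih
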