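import Cfsg.Agent.Lib.Block.Dihedral.Setup

/-!
Sums over a 2-section with nilpotent centralizer, and products of two conjugates of an involution.
-/

open scoped ComplexConjugate

namespace Cfsg.Agent.Block.Dih

set_option linter.unusedSectionVars false
set_option linter.style.haveILetI false

universe u

variable {G : Type u} [Group G] [Finite G] {M : Ideal AlgInt}

/-- The second orthogonality relation as a count of conjugating elements. -/
theorem sum_irr_conjugators [Fintype G] [DecidableEq G] (x y : G) :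
    ∑ χ : IrrCharacter G, (χ : G → ℂ) x * conj ((χ : G → ℂ) y) =
      ∑ g : G, if g * x * g⁻¹ = y then (1 : ℂ) else 0 := by
  classical
  rw [Cfsg.Agent.Char.sum_irr_mul_conj, Finset.sum_boole]
  split_ifs with h
  · obtain ⟨g₀, rfl⟩ := isConj_iff.1 h
    rw [← Nat.card_eq_finsetCard]
    congr 1
    have h1 : ∀ g : G, g * x * g⁻¹ = g₀ * x * g₀⁻¹ →
        g * g₀⁻¹ ∈ Subgroup.centralizer ({g₀ * x * g₀⁻¹} : Set G) := fun g hg => by
      refine Subgroup.mem_centralizer_singleton_iff.2 ?_
      calc g * g₀⁻¹ * (g₀ * x * g₀⁻¹) = (g * x * g⁻¹) * g * g₀⁻¹ := by group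
        _ = g₀ * x * g₀⁻¹ * g * g₀⁻¹ := by rw [hg]
        _ = _ := by group
    have h2 : ∀ c : Subgroup.centralizer ({g₀ * x * g₀⁻¹} : Set G),
        (c : G) * g₀ * x * ((c : G) * g₀)⁻¹ = g₀ * x * g₀⁻¹ := fun c => by
      have hc := Subgroup.mem_centralizer_singleton_iff.1 c.2
      calc (c : G) * g₀ * x * ((c : G) * g₀)⁻¹ = (c : G) * (g₀ * x * g₀⁻¹) * (c : G)⁻¹ := by group
        _ = g₀ * x * g₀⁻¹ * c * (c : G)⁻¹ := by rw [hc]
        _ = _ := mul_inv_cancel_right _ _
    exact (Nat.card_congr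
      { toFun := fun g => ⟨(g.1 : G) * g₀⁻¹, h1 _ (Finset.mem_filter.1 g.2).2⟩
        invFun := fun c => ⟨(c : G) * g₀, Finset.mem_filter.2 ⟨Finset.mem_univ _, h2 c⟩⟩
        left_inv := fun g => Subtype.ext (inv_mul_cancel_right (g.1 : G) g₀)
        right_inv := fun c => Subtype.ext (mul_inv_cancel_right (c : G) g₀) }).symm
  · rw [Finset.filter_false_of_mem fun g _ hg => h (isConj_iff.2 ⟨g, hg⟩), Finset.card_empty,
      Nat.cast_zero]

/-- Sums over the complement of the centralizer of `y` see only the principal block. -/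
theorem section_sum_zero (hM : IsPModular 2 M) {y : G} (hy : ∃ k : ℕ, orderOf y = 2 ^ k)
    {K : Subgroup (Subgroup.centralizer ({y} : Set G))} [K.Normal] [Fintype K]
    (hK : ¬ 2 ∣ Nat.card K) {k : ℕ} (hk : K.index = 2 ^ k) {χ : IrrCharacter G}
    (hχ : χ ∉ principalBlock M G) :
    ∑ v : K, (χ : G → ℂ) (y * ((v : Subgroup.centralizer ({y} : Set G)) : G)) = 0 := by
  classical
  haveI : Fact (Nat.Prime 2) := ⟨Nat.prime_two⟩
  cases nonempty_fintype G
  cases nonempty_fintype (Subgroup.centralizer ({y} : Set G))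
  let F : IrrCharacter G → ℂ := fun ξ => ∑ v : K, (ξ : G → ℂ) (y * ((v : (Subgroup.centralizer ({y} : Set G))) : G))
  have hodd : ∀ v : K, ¬ 2 ∣ orderOf (v : (Subgroup.centralizer ({y} : Set G))) := fun v hd => by
    rw [Subgroup.orderOf_coe] at hd
    exact hK (hd.trans (orderOf_dvd_natCard v))
  have hcy : ∀ v : (Subgroup.centralizer ({y} : Set G)), Commute y (v : G) := fun v =>
    (Subgroup.mem_centralizer_singleton_iff.1 v.2).symm
  have hall : ∑ ξ : IrrCharacter G, F ξ * conj (F ξ) = (Nat.card K : ℂ) * Nat.card (Subgroup.centralizer ({y} : Set G)) := by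
    simp only [F, map_sum, Finset.sum_mul, Finset.mul_sum]
    rw [Finset.sum_comm]
    rw [show (Nat.card K : ℂ) * (Nat.card (Subgroup.centralizer ({y} : Set G)) : ℂ) = ∑ _v : K, (Nat.card (Subgroup.centralizer ({y} : Set G)) : ℂ) by
      rw [Finset.sum_const, nsmul_eq_mul, Finset.card_univ, Nat.card_eq_fintype_card]]
    refine Finset.sum_congr rfl fun v _ => ?_
    rw [Finset.sum_comm]
    simp only [sum_irr_conjugators]
    rw [Finset.sum_comm]
    rw [show (Nat.card (Subgroup.centralizer ({y} : Set G)) : ℂ) = ∑ g : G, if g ∈ (Subgroup.centralizer ({y} : Set G)) then (1 : ℂ) else 0 by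
      rw [Finset.sum_boole, ← Nat.card_eq_finsetCard]
      congr 1
      exact Nat.card_congr (Equiv.subtypeEquivRight fun g => by simp)]
    refine Finset.sum_congr rfl fun g _ => ?_
    have hpp : ∀ w : K, IsPPart 2 (y * ((w : (Subgroup.centralizer ({y} : Set G))) : G)) y := fun w =>
      ⟨_, rfl, hcy _, hy, by rw [Subgroup.orderOf_coe]; exact hodd w⟩
    have hconj : ∀ w : K, g * (y * ((w : (Subgroup.centralizer ({y} : Set G))) : G)) * g⁻¹ = y * ((v : (Subgroup.centralizer ({y} : Set G))) : G) →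
        g ∈ (Subgroup.centralizer ({y} : Set G)) ∧ g * ((w : (Subgroup.centralizer ({y} : Set G))) : G) * g⁻¹ = ((v : (Subgroup.centralizer ({y} : Set G))) : G) := by
      intro w hw
      have h1 : IsPPart 2 (y * ((v : (Subgroup.centralizer ({y} : Set G))) : G)) (g * y * g⁻¹) := by
        rw [← hw]
        obtain ⟨u, hu, hc, ⟨i, hi⟩, ho⟩ := hpp w
        exact ⟨g * u * g⁻¹, by rw [← hu]; group, hc.map (MulAut.conj g).toMonoidHom,
          ⟨i, by rw [show g * y * g⁻¹ = MulAut.conj g y from rfl, MulEquiv.orderOf_eq, hi]⟩,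
          by rwa [show g * u * g⁻¹ = MulAut.conj g u from rfl, MulEquiv.orderOf_eq]⟩
      have h2 := pPart_unique h1 (hpp v)
      refine ⟨Subgroup.mem_centralizer_singleton_iff.2 (mul_inv_eq_iff_eq_mul.1 h2), ?_⟩
      calc g * ((w : (Subgroup.centralizer ({y} : Set G))) : G) * g⁻¹ = (g * y * g⁻¹)⁻¹ * (g * (y * ((w : (Subgroup.centralizer ({y} : Set G))) : G)) * g⁻¹) := by group
        _ = _ := by rw [h2, hw, inv_mul_cancel_left]
    by_cases hg : g ∈ Subgroup.centralizer ({y} : Set G)
    · rw [if_pos hg]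
      have hmem : (⟨g, hg⟩ : Subgroup.centralizer ({y} : Set G))⁻¹ *
          (v : Subgroup.centralizer ({y} : Set G)) * ⟨g, hg⟩ ∈ K :=
        Subgroup.Normal.conj_mem' inferInstance _ v.2 _
      have e : g * y * g⁻¹ = y := mul_inv_eq_iff_eq_mul.2
        (Subgroup.mem_centralizer_singleton_iff.1 hg)
      rw [Finset.sum_eq_single ⟨_, hmem⟩ (fun w _ hw => if_neg fun e' =>
        hw (Subtype.ext (Subtype.ext (by
          simp only [Subgroup.coe_mul, Subgroup.coe_inv]
          rw [← (hconj w e').2]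
          group))))
        (fun h => absurd (Finset.mem_univ _) h), if_pos]
      simp only [Subgroup.coe_mul, Subgroup.coe_inv]
      calc _ = (g * y * g⁻¹) * ((v : Subgroup.centralizer ({y} : Set G)) : G) := by group
        _ = _ := by rw [e]
    · rw [if_neg hg]
      exact Finset.sum_eq_zero fun w _ => if_neg fun e => hg (hconj w e).1
  have hcompl : Cfsg.HasNormalPComplement 2 (Subgroup.centralizer ({y} : Set G)) :=
    Cfsg.Agent.Transfer.hasNormalPComplement_iff_exists.2 ⟨K, inferInstance, hK, k, hk⟩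
  have hcard : (Nat.card (Subgroup.centralizer ({y} : Set G))).factorization 2 = k := by
    rw [← K.card_mul_index, hk, Nat.factorization_mul Nat.card_pos.ne' (by positivity),
      Finsupp.add_apply, Nat.factorization_eq_zero_of_not_dvd hK,
      Nat.Prime.factorization_pow Nat.prime_two, Finsupp.single_eq_same, zero_add]
  set S := Finset.univ.filter (fun ξ : IrrCharacter G => ξ ∈ principalBlock M G)
  have hB : ∑ ξ ∈ S, F ξ * conj (F ξ) = (Nat.card K : ℂ) * Nat.card (Subgroup.centralizer ({y} : Set G)) := by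
    have hF : ∀ ξ ∈ S, F ξ = (Nat.card K : ℂ) * (ξ : G → ℂ) y := fun ξ hξ => by
      simp only [F]
      rw [Finset.sum_congr rfl fun v _ => principal_section_const hM hy hK (hodd v) v.2
        (Finset.mem_filter.1 hξ).2, Finset.sum_const, nsmul_eq_mul, Finset.card_univ,
        Nat.card_eq_fintype_card]
    have hcol := (principal_pElem_self hM hy).trans (column_eq hM hcompl)
    rw [finsum_mem_block, hcard] at hcol
    rw [Finset.sum_congr rfl (g := fun ξ : IrrCharacter G => (Nat.card K : ℂ) * (Nat.card K : ℂ) *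
      ((ξ : G → ℂ) y * conj ((ξ : G → ℂ) y))) fun ξ hξ => by
        rw [hF ξ hξ, map_mul, Complex.conj_natCast]; ring, ← Finset.mul_sum, hcol, mul_assoc,
      ← K.card_mul_index, hk]
    push_cast
    ring
  have hrest : ∑ ξ ∈ Finset.univ.filter (fun ξ : IrrCharacter G => ξ ∉ principalBlock M G),
      F ξ * conj (F ξ) = 0 := by
    have := Finset.sum_filter_add_sum_filter_not Finset.univ
      (fun ξ : IrrCharacter G => ξ ∈ principalBlock M G) (fun ξ => F ξ * conj (F ξ))
    rw [hB, hall] at this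
    linear_combination this
  simp only [Complex.mul_conj] at hrest
  rw [← Complex.ofReal_sum, Complex.ofReal_eq_zero] at hrest
  show F χ = 0
  exact Complex.normSq_eq_zero.1 ((Finset.sum_eq_zero_iff_of_nonneg
    fun ξ _ => Complex.normSq_nonneg _).1 hrest χ (Finset.mem_filter.2 ⟨Finset.mem_univ _, hχ⟩))

/-- The class function counting products of two conjugates of an involution. -/
theorem pair_function [Fintype G] [DecidableEq G] (t u : G) :
    (Nat.card G : ℂ) * ∑ χ : IrrCharacter G,
        (χ : G → ℂ) t ^ 2 / (χ : G → ℂ) 1 * (χ : G → ℂ) u =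
      ∑ p : G × G, if p.1 * t * p.1⁻¹ * (p.2 * t * p.2⁻¹) = u⁻¹ then (1 : ℂ) else 0 := by
  classical
  have h : (Nat.card G : ℂ) * ∑ χ : IrrCharacter G,
        (χ : G → ℂ) t ^ 2 / (χ : G → ℂ) 1 * (χ : G → ℂ) u =
      ∑ g : G, ∑ χ : IrrCharacter G,
        (χ : G → ℂ) (t * (g * t * g⁻¹)) * conj ((χ : G → ℂ) u⁻¹) := by
    rw [Finset.sum_comm, Finset.mul_sum]
    refine Finset.sum_congr rfl fun χ _ => ?_
    rw [← Finset.sum_mul, sum_mul_conj, irr_apply_inv, Complex.conj_conj]
    ring
  rw [h]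
  simp only [sum_irr_conjugators]
  rw [Fintype.sum_prod_type, Finset.sum_comm]
  refine Finset.sum_congr rfl fun g _ => ?_
  refine Fintype.sum_equiv (Equiv.mulLeft g) _ _ fun k => ?_
  simp only [Equiv.coe_mulLeft]
  congr 2
  group

end Cfsg.Agent.Block.Dih
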