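import Cfsg.Agent.Lib.Block.Dihedral.Main
import Cfsg.Agent.Lib.Block.Dihedral.Sections

/-!
Products of two involutions in a group with dihedral Sylow 2-subgroups and one class of
involutions.
-/

open scoped ComplexConjugate

namespace Cfsg.Agent.Block.Dih

set_option linter.unusedSectionVars false
set_option linter.style.haveILetI false

universe u

variable {G : Type u} [Group G] [Finite G] {M : Ideal AlgInt}

/-- Sums of characters over a coset of an odd normal subgroup of an overgroup of a centralizer. -/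
theorem coset_sum (hM : IsPModular 2 M) (L : Subgroup G) [Fintype L] {y : G}
    (hy : ∃ k : ℕ, orderOf y = 2 ^ k) (hyL : y ∈ Subgroup.normalizer (L : Set G))
    (hcL : Subgroup.centralizer ({y} : Set G) ≤ Subgroup.normalizer (L : Set G))
    (hodd : ¬ 2 ∣ Nat.card L)
    (hidx : ∃ k : ℕ, (L.subgroupOf (Subgroup.centralizer ({y} : Set G))).index = 2 ^ k)
    (χ : IrrCharacter G) [Decidable (χ ∈ principalBlock M G)] :
    ∑ l : L, (χ : G → ℂ) ((l : G) * y) =
      if χ ∈ principalBlock M G then (Nat.card L : ℂ) * (χ : G → ℂ) y else 0 := by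
  classical
  haveI : Fact (Nat.Prime 2) := ⟨Nat.prime_two⟩
  cases nonempty_fintype G
  haveI hKn : (L.subgroupOf (Subgroup.centralizer ({y} : Set G))).Normal :=
    ⟨fun x hx c => Subgroup.mem_subgroupOf.2
      ((Subgroup.mem_normalizer_iff.1 (hcL c.2) _).1 (Subgroup.mem_subgroupOf.1 hx))⟩
  set K := L.subgroupOf (Subgroup.centralizer ({y} : Set G)) with hK
  cases nonempty_fintype K
  obtain ⟨k, hk⟩ := hidx
  have hKodd : ¬ 2 ∣ Nat.card K := by
    refine fun hd => hodd (hd.trans ?_)
    rw [← Nat.card_congr (Subgroup.equivMapOfInjective K _ (Subgroup.subtype_injective _)).symm.toEquiv]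
    exact Subgroup.card_dvd_of_le (by rw [hK, Subgroup.subgroupOf_map_subtype]; exact inf_le_left)
  have hoK : ∀ v : K, ¬ 2 ∣ orderOf ((v : Subgroup.centralizer ({y} : Set G)) : G) := fun v hd => by
    rw [Subgroup.orderOf_coe, Subgroup.orderOf_coe] at hd
    exact hKodd (hd.trans (orderOf_dvd_natCard v))
  have hvy : ∀ v : K, ((v : Subgroup.centralizer ({y} : Set G)) : G) * y =
      y * ((v : Subgroup.centralizer ({y} : Set G)) : G) := fun v =>
    Subgroup.mem_centralizer_singleton_iff.1 (v : Subgroup.centralizer ({y} : Set G)).2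
  let φ : L × K → L := fun q =>
    ⟨(q.1 : G) * (y * ((q.2 : Subgroup.centralizer ({y} : Set G)) : G)) * (q.1 : G)⁻¹ * y⁻¹, by
      rw [show (q.1 : G) * (y * ((q.2 : Subgroup.centralizer ({y} : Set G)) : G)) * (q.1 : G)⁻¹ * y⁻¹
        = (q.1 : G) * (y * (((q.2 : Subgroup.centralizer ({y} : Set G)) : G) * (q.1 : G)⁻¹) * y⁻¹)
          by group]
      exact L.mul_mem q.1.2 ((Subgroup.mem_normalizer_iff.1 hyL _).1
        (L.mul_mem (Subgroup.mem_subgroupOf.1 q.2.2) (L.inv_mem q.1.2)))⟩
  have hφy : ∀ q, (φ q : G) * y =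
      (q.1 : G) * (y * ((q.2 : Subgroup.centralizer ({y} : Set G)) : G)) * (q.1 : G)⁻¹ := fun q => by
    simp only [φ, inv_mul_cancel_right]
  have hfib : ∀ q, (Finset.univ.filter fun q' => φ q' = φ q).card = Nat.card K := by
    intro q
    rw [← Nat.card_eq_finsetCard]
    have hsame : ∀ q', φ q' = φ q →
        ∃ c : K, (q'.1 : G) = q.1 * ((c : Subgroup.centralizer ({y} : Set G)) : G) ∧
          q'.2 = c⁻¹ * q.2 * c := by
      intro q' e
      have e1 : (q'.1 : G) * (y * ((q'.2 : Subgroup.centralizer ({y} : Set G)) : G)) * (q'.1 : G)⁻¹ =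
          (q.1 : G) * (y * ((q.2 : Subgroup.centralizer ({y} : Set G)) : G)) * (q.1 : G)⁻¹ := by
        rw [← hφy, ← hφy, e]
      set d := (q.1 : G)⁻¹ * q'.1 with hd
      have hd2 : d * (y * ((q'.2 : Subgroup.centralizer ({y} : Set G)) : G)) * d⁻¹ =
          y * ((q.2 : Subgroup.centralizer ({y} : Set G)) : G) := by
        calc _ = (q.1 : G)⁻¹ * ((q'.1 : G) *
            (y * ((q'.2 : Subgroup.centralizer ({y} : Set G)) : G)) * (q'.1 : G)⁻¹) * q.1 := by
              rw [hd]; group
          _ = _ := by rw [e1]; group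
      have hp1 : IsPPart 2 (y * ((q.2 : Subgroup.centralizer ({y} : Set G)) : G)) (d * y * d⁻¹) :=
        ⟨d * ((q'.2 : Subgroup.centralizer ({y} : Set G)) : G) * d⁻¹, by rw [← hd2]; group,
          (show Commute y _ from (hvy q'.2).symm).map (MulAut.conj d).toMonoidHom,
          by
            obtain ⟨i, hi⟩ := hy
            exact ⟨i, by rw [show d * y * d⁻¹ = MulAut.conj d y from rfl, MulEquiv.orderOf_eq, hi]⟩,
          by
            rw [show d * ((q'.2 : Subgroup.centralizer ({y} : Set G)) : G) * d⁻¹ =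
              MulAut.conj d ((q'.2 : Subgroup.centralizer ({y} : Set G)) : G) from rfl,
              MulEquiv.orderOf_eq]
            exact hoK _⟩
      have hdy : d * y * d⁻¹ = y :=
        pPart_unique hp1 ⟨_, rfl, (hvy q.2).symm, hy, hoK _⟩
      have hdC : d ∈ Subgroup.centralizer ({y} : Set G) :=
        Subgroup.mem_centralizer_singleton_iff.2 (mul_inv_eq_iff_eq_mul.1 hdy)
      refine ⟨⟨⟨d, hdC⟩, Subgroup.mem_subgroupOf.2 (L.mul_mem (L.inv_mem q.1.2) q'.1.2)⟩,
        by simp [hd], Subtype.ext (Subtype.ext ?_)⟩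
      simp only [Subgroup.coe_mul, Subgroup.coe_inv]
      calc ((q'.2 : Subgroup.centralizer ({y} : Set G)) : G) = d⁻¹ * (d * y * d⁻¹)⁻¹ *
            (d * (y * ((q'.2 : Subgroup.centralizer ({y} : Set G)) : G)) * d⁻¹) * d := by group
        _ = _ := by rw [hd2, hdy]; group
    choose f hf1 hf2 using hsame
    have hmk : ∀ c : K, φ (⟨(q.1 : G) * ((c : Subgroup.centralizer ({y} : Set G)) : G),
        L.mul_mem q.1.2 (Subgroup.mem_subgroupOf.1 c.2)⟩, c⁻¹ * q.2 * c) = φ q := fun c => by
      refine Subtype.ext (mul_right_cancel (b := y) ?_)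
      rw [hφy, hφy]
      simp only [Subgroup.coe_mul, Subgroup.coe_inv]
      calc _ = (q.1 : G) * (((c : Subgroup.centralizer ({y} : Set G)) : G) * y *
            ((c : Subgroup.centralizer ({y} : Set G)) : G)⁻¹) *
            ((q.2 : Subgroup.centralizer ({y} : Set G)) : G) * (q.1 : G)⁻¹ := by group
        _ = _ := by rw [hvy c]; group
    refine (Nat.card_congr (Equiv.ofBijective
      (fun c : K => (⟨(⟨(q.1 : G) * ((c : Subgroup.centralizer ({y} : Set G)) : G),
        L.mul_mem q.1.2 (Subgroup.mem_subgroupOf.1 c.2)⟩, c⁻¹ * q.2 * c),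
          Finset.mem_filter.2 ⟨Finset.mem_univ _, hmk c⟩⟩ :
            ↥(Finset.univ.filter fun q' => φ q' = φ q))) ⟨fun c c' e => ?_, fun q' => ?_⟩)).symm
    · have e' := congrArg (fun w : ↥(Finset.univ.filter fun q' => φ q' = φ q) => ((w.1.1 : L) : G)) e
      exact Subtype.ext (Subtype.ext (mul_left_cancel e'))
    · have hq' : φ q'.1 = φ q := (Finset.mem_filter.1 q'.2).2
      exact ⟨f _ hq', Subtype.ext (Prod.ext (Subtype.ext (hf1 _ hq').symm) (hf2 _ hq').symm)⟩
  have hK0 : 0 < Nat.card K := Nat.card_pos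
  have hcardim : (Finset.univ.image φ).card = Fintype.card L := by
    have h := Finset.card_eq_sum_card_image φ (Finset.univ : Finset (L × K))
    rw [Finset.sum_congr rfl (g := fun _ => Nat.card K) fun w hw => by
      obtain ⟨q, -, rfl⟩ := Finset.mem_image.1 hw
      exact hfib q, Finset.sum_const, smul_eq_mul, Finset.card_univ, Fintype.card_prod,
      ← Nat.card_eq_fintype_card (α := K)] at h
    exact (Nat.eq_of_mul_eq_mul_right hK0 h).symm
  have himg : Finset.univ.image φ = Finset.univ := Finset.eq_univ_of_card _ hcardim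
  have key : (Nat.card K : ℂ) * ∑ l : L, (χ : G → ℂ) ((l : G) * y) = (Nat.card L : ℂ) *
      ∑ v : K, (χ : G → ℂ) (y * ((v : Subgroup.centralizer ({y} : Set G)) : G)) := by
    calc (Nat.card K : ℂ) * ∑ l : L, (χ : G → ℂ) ((l : G) * y)
        = ∑ w : L, ∑ q ∈ Finset.univ.filter (fun q => φ q = w), (χ : G → ℂ) ((φ q : G) * y) := by
          rw [Finset.mul_sum]
          refine Finset.sum_congr rfl fun w _ => ?_
          obtain ⟨q, -, rfl⟩ := Finset.mem_image.1 (himg ▸ Finset.mem_univ w)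
          rw [Finset.sum_congr rfl (g := fun _ => (χ : G → ℂ) ((φ q : G) * y)) fun q' hq' => by
            rw [(Finset.mem_filter.1 hq').2], Finset.sum_const, hfib q, nsmul_eq_mul]
      _ = ∑ q : L × K, (χ : G → ℂ) ((φ q : G) * y) :=
          Finset.sum_fiberwise Finset.univ φ (fun q => (χ : G → ℂ) ((φ q : G) * y))
      _ = _ := by
          rw [Fintype.sum_prod_type, Nat.card_eq_fintype_card, ← Finset.card_univ, ← nsmul_eq_mul,
            ← Finset.sum_const]
          refine Finset.sum_congr rfl fun l _ => Finset.sum_congr rfl fun v _ => ?_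
          rw [hφy]
          exact irr_classFun χ _ _
  refine mul_left_cancel₀ (Nat.cast_ne_zero.2 hK0.ne' : (Nat.card K : ℂ) ≠ 0) ?_
  rw [key]
  split_ifs with hχ
  · rw [Finset.sum_congr rfl fun v _ => principal_section_const hM hy hKodd
      (fun hd => hoK v (by rwa [Subgroup.orderOf_coe])) v.2 hχ,
      Finset.sum_const, nsmul_eq_mul, Finset.card_univ, ← Nat.card_eq_fintype_card]
    ring
  · rw [section_sum_zero hM hy hKodd hk hχ]
    ring

/-- The number of involutions in a coset. -/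
noncomputable def invCount (L : Subgroup G) (x : G) : ℕ :=
  Nat.card {l : L // orderOf ((l : G) * x) = 2}

theorem invCount_conj (L : Subgroup G) {c : G} (hc : c ∈ Subgroup.normalizer (L : Set G)) (x : G) :
    invCount L (c * x * c⁻¹) = invCount L x := by
  have e : ∀ l : L, orderOf ((sylowConj hc l : G) * (c * x * c⁻¹)) = orderOf ((l : G) * x) := by
    intro l
    rw [sylowConj_val, show c * (l : G) * c⁻¹ * (c * x * c⁻¹) = MulAut.conj c ((l : G) * x) by
      simp [mul_assoc], MulEquiv.orderOf_eq]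
  exact (Nat.card_congr ((sylowConj hc).toEquiv.subtypeEquiv fun l => by
    rw [MulEquiv.toEquiv_eq_coe, MulEquiv.coe_toEquiv, e l])).symm

theorem invCount_mul (L : Subgroup G) {x : G} (hx : x * x = 1) (hxL : x ∉ L)
    (hxN : x ∈ Subgroup.normalizer (L : Set G)) (hodd : ¬ 2 ∣ Nat.card L) :
    invCount L x * Nat.card ↥(L ⊓ Subgroup.centralizer ({x} : Set G)) = Nat.card L := by
  classical
  have hxi : x⁻¹ = x := inv_eq_of_mul_eq_one_left hx
  set e := (Nat.card L + 1) / 2
  have he : 2 * e = Nat.card L + 1 := by omega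
  have hone : ∀ l : L, orderOf ((l : G) * x) = 2 ↔ x * (l : G) * x = (l : G)⁻¹ := by
    intro l
    rw [orderOf_eq_prime_iff]
    refine ⟨fun h => ?_, fun h => ⟨?_, fun h1 => hxL ?_⟩⟩
    · have h' := h.1
      rw [_root_.pow_two] at h'
      rw [eq_inv_iff_mul_eq_one]
      calc x * (l : G) * x * l = (l : G)⁻¹ * ((l : G) * x * ((l : G) * x)) * l := by group
        _ = 1 := by rw [h']; group
    · rw [_root_.pow_two, show (l : G) * x * ((l : G) * x) = l * (x * l * x) by group, h,
        mul_inv_cancel]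
    · rw [show x = (l : G)⁻¹ from (inv_eq_of_mul_eq_one_right h1).symm]
      exact inv_mem l.2
  let s : L → L := fun l => l ^ e
  have hs : ∀ l : L, s l * s l = l := fun l => by
    rw [← pow_add, ← two_mul, he, pow_succ, pow_card_eq_one', one_mul]
  have hfix : ∀ w : L, x * (w : G) * x = (w : G)⁻¹ → x * (s w : G) * x = (s w : G)⁻¹ := fun w hw => by
    simp only [s, SubmonoidClass.coe_pow]
    calc x * (w : G) ^ e * x = x * (w : G) ^ e * x⁻¹ := by rw [hxi]
      _ = (x * (w : G) * x⁻¹) ^ e := conj_pow.symm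
      _ = _ := by rw [hxi, hw, inv_pow]
  let φ : L → {l : L // orderOf ((l : G) * x) = 2} := fun a =>
    ⟨⟨(a : G) * (x * (a : G)⁻¹ * x), L.mul_mem a.2 (by
      have := (Subgroup.mem_normalizer_iff.1 hxN _).1 (L.inv_mem a.2)
      rwa [hxi] at this)⟩, (hone _).2 (by
        show x * ((a : G) * (x * (a : G)⁻¹ * x)) * x = ((a : G) * (x * (a : G)⁻¹ * x))⁻¹
        calc _ = x * a * x * (a : G)⁻¹ * (x * x) := by group
          _ = x⁻¹ * a * x⁻¹ * (a : G)⁻¹ := by rw [hx, mul_one, hxi]
          _ = _ := by group)⟩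
  have hval : ∀ a, (((φ a).1 : L) : G) = (a : G) * (x * (a : G)⁻¹ * x) := fun a => rfl
  have hsφ : ∀ (w : {l : L // orderOf ((l : G) * x) = 2}) (c : ↥(L ⊓ Subgroup.centralizer ({x} : Set G))),
      φ ⟨(s w.1 : G) * c, L.mul_mem (s w.1).2 c.2.1⟩ = w := fun w c => by
    refine Subtype.ext (Subtype.ext ?_)
    have hcx : (c : G) * x = x * c := Subgroup.mem_centralizer_singleton_iff.1 c.2.2
    have hw := hfix w.1 ((hone _).1 w.2)
    rw [hval]
    calc ((s w.1 : G) * c) * (x * ((s w.1 : G) * c)⁻¹ * x) =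
        (s w.1 : G) * ((c : G) * x) * (c : G)⁻¹ * (s w.1 : G)⁻¹ * x := by group
      _ = (s w.1 : G) * (x * (s w.1 : G)⁻¹ * x) := by rw [hcx]; group
      _ = (s w.1 : G) * (s w.1 : G) := by
          congr 1
          calc x * (s w.1 : G)⁻¹ * x = (x⁻¹ * (s w.1 : G) * x⁻¹)⁻¹ := by group
            _ = _ := by rw [hxi, hw, inv_inv]
      _ = _ := congrArg Subtype.val (hs w.1)
  have hcmem : ∀ a : L, (s (φ a).1 : G)⁻¹ * a ∈ L ⊓ Subgroup.centralizer ({x} : Set G) := fun a => by
    refine ⟨L.mul_mem (L.inv_mem (s _).2) a.2, Subgroup.mem_centralizer_singleton_iff.2 ?_⟩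
    have hw := hfix (φ a).1 ((hone _).1 (φ a).2)
    have h2 := congrArg Subtype.val (hs (φ a).1)
    rw [Subgroup.coe_mul, hval] at h2
    set d := (s (φ a).1 : G)
    calc d⁻¹ * a * x = d⁻¹ * ((a : G) * (x * (a : G)⁻¹ * x)) * x⁻¹ * a := by group
      _ = d * x⁻¹ * a := by rw [← h2]; group
      _ = (x * (x⁻¹ * d * x⁻¹)) * a := by group
      _ = x * (d⁻¹ * a) := by rw [hxi, hw, mul_assoc]
  rw [invCount, ← Nat.card_prod]
  refine Nat.card_congr
    { toFun := fun q => ⟨(s q.1.1 : G) * q.2, L.mul_mem (s q.1.1).2 q.2.2.1⟩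
      invFun := fun a => (φ a, ⟨_, hcmem a⟩)
      left_inv := fun q => Prod.ext (hsφ q.1 q.2) (Subtype.ext ?_)
      right_inv := fun a => Subtype.ext (mul_inv_cancel_left _ _) }
  simp only [hsφ, inv_mul_cancel_left]

end Cfsg.Agent.Block.Dih
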