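import Cfsg.Agent.Lib.Block.Dihedral.Order
import Cfsg.Agent.Lib.Invol.Dihedral

/-!
The order formula for a dihedral Sylow 2-subgroup and one class of involutions.
-/

open scoped ComplexConjugate

namespace Cfsg.Agent.Block.Dih

set_option linter.unusedSectionVars false
set_option linter.style.haveILetI false

universe u

variable {G : Type u} [Group G] [Finite G] {M : Ideal AlgInt}

/-- A dihedral subgroup from generators. -/
theorem dihedral_equiv (Q : Sylow 2 G) {σ τ : G} {m : ℕ} (hσo : orderOf σ = m) (hτo : orderOf τ = 2)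
    (hrel : τ * σ * τ⁻¹ = σ⁻¹) (hgen : Subgroup.closure ({σ, τ} : Set G) = (Q : Subgroup G))
    (hm : 3 ≤ m) : Nonempty (↥(Q : Subgroup G) ≃* DihedralGroup m) := by
  have hττ : τ * τ = 1 := by rw [← _root_.pow_two, ← hτo, pow_orderOf_eq_one]
  have hsq : σ * τ * (σ * τ) = 1 := by
    calc σ * τ * (σ * τ) = σ * (τ * σ * τ⁻¹) * (τ * τ) := by group
      _ = 1 := by rw [hrel, hττ, mul_one, mul_inv_cancel]
  have hne : σ * τ ≠ 1 := fun e => by
    rw [eq_inv_of_mul_eq_one_left e, orderOf_inv, hτo] at hσo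
    omega
  have hx : orderOf (σ * τ) = 2 := orderOf_eq_prime (by rw [_root_.pow_two]; exact hsq) hne
  obtain ⟨e⟩ := Cfsg.Agent.Invol.nonempty_mulEquiv_dihedralGroup hx hτo
  rw [show σ * τ * τ = σ by rw [mul_assoc, hττ, mul_one], hσo] at e
  have hc : Subgroup.closure ({σ * τ, τ} : Set G) = (Q : Subgroup G) := by
    rw [← hgen]
    refine le_antisymm ((Subgroup.closure_le _).2 ?_) ((Subgroup.closure_le _).2 ?_)
    · rintro z (rfl | rfl)
      · exact mul_mem (Subgroup.subset_closure (by simp)) (Subgroup.subset_closure (by simp))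
      · exact Subgroup.subset_closure (by simp)
    · rintro z (rfl | rfl)
      · rw [show z = z * τ * τ⁻¹ by group]
        exact mul_mem (Subgroup.subset_closure (by simp))
          (inv_mem (Subgroup.subset_closure (by simp)))
      · exact Subgroup.subset_closure (by simp)
  exact ⟨(MulEquiv.subgroupCongr hc).symm.trans e⟩

/-- A sum over conjugates. -/
theorem conj_sum [Fintype G] (t : G) (ht : orderOf t = 2)
    (hone : ∀ z : G, orderOf z = 2 → IsConj t z) (F : G → ℂ) :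
    ∑ h : G, F (h * t * h⁻¹) = (Nat.card (Subgroup.centralizer ({t} : Set G)) : ℂ) *
      ∑ a ∈ Finset.univ.filter (fun a : G => orderOf a = 2), F a := by
  classical
  rw [← Finset.sum_fiberwise_of_maps_to (t := Finset.univ.filter fun a : G => orderOf a = 2)
    (g := fun h : G => h * t * h⁻¹) (fun h _ => Finset.mem_filter.2 ⟨Finset.mem_univ _, by
      rw [show h * t * h⁻¹ = MulAut.conj h t from rfl, MulEquiv.orderOf_eq, ht]⟩), Finset.mul_sum]
  refine Finset.sum_congr rfl fun a ha => ?_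
  rw [Finset.sum_congr rfl (g := fun _ => F a) fun h hh => by rw [(Finset.mem_filter.1 hh).2],
    Finset.sum_const, nsmul_eq_mul]
  congr 2
  obtain ⟨g₀, rfl⟩ := isConj_iff.1 (hone a (Finset.mem_filter.1 ha).2)
  rw [← Nat.card_eq_finsetCard]
  have h1 : ∀ h : G, h * t * h⁻¹ = g₀ * t * g₀⁻¹ →
      g₀⁻¹ * h ∈ Subgroup.centralizer ({t} : Set G) := fun h hh => by
    refine Subgroup.mem_centralizer_singleton_iff.2 ?_
    calc g₀⁻¹ * h * t = g₀⁻¹ * (h * t * h⁻¹) * h := by group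
      _ = _ := by rw [hh]; group
  have h2 : ∀ c : Subgroup.centralizer ({t} : Set G),
      g₀ * (c : G) * t * (g₀ * (c : G))⁻¹ = g₀ * t * g₀⁻¹ := fun c => by
    have hc := Subgroup.mem_centralizer_singleton_iff.1 c.2
    calc g₀ * (c : G) * t * (g₀ * (c : G))⁻¹ = g₀ * ((c : G) * t) * (c : G)⁻¹ * g₀⁻¹ := by group
      _ = _ := by rw [hc]; group
  exact Nat.card_congr
    { toFun := fun h => ⟨g₀⁻¹ * (h.1 : G), h1 _ (Finset.mem_filter.1 h.2).2⟩
      invFun := fun c => ⟨g₀ * (c : G), Finset.mem_filter.2 ⟨Finset.mem_univ _, h2 c⟩⟩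
      left_inv := fun h => Subtype.ext (mul_inv_cancel_left g₀ (h.1 : G))
      right_inv := fun c => Subtype.ext (inv_mul_cancel_left g₀ (c : G)) }

/-- Decomposition of the centralizer of the central involution. -/
structure Odd2 (L C : Subgroup G) (P : Subgroup G) : Prop where
  odd : ¬ 2 ∣ Nat.card L
  le : L ≤ C
  norm : C ≤ Subgroup.normalizer (L : Set G)
  ple : P ≤ C
  disj : L ⊓ P = ⊥
  card : Nat.card C = Nat.card L * Nat.card P

variable {P : Sylow 2 G} {σ : G} {m : ℕ}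

theorem Data.half_central (h : Data P σ m) {r : ℕ} (hm : m = 2 * (r + 1)) :
    (P : Subgroup G) ≤ Subgroup.centralizer ({σ ^ (r + 1)} : Set G) := by
  intro x hx
  refine Subgroup.mem_centralizer_singleton_iff.2 (mul_inv_eq_iff_eq_mul.1 ?_)
  rcases h.pow_conj hx (h.gen_pow_mem (r + 1)) with e | e
  · exact e
  · rw [e, inv_eq_iff_mul_eq_one, ← _root_.pow_two, ← h.orderOf_half hm, pow_orderOf_eq_one]

theorem Data.exists_odd2 (h : Data P σ m) {r : ℕ} (hm : m = 2 * (r + 1)) :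
    ∃ L : Subgroup G,
      Odd2 L (Subgroup.centralizer ({σ ^ (r + 1)} : Set G)) (P : Subgroup G) := by
  classical
  haveI : Fact (Nat.Prime 2) := ⟨Nat.prime_two⟩
  have hJ := h.orderOf_half hm
  obtain ⟨K, hKn, hK, k, hk⟩ :=
    Cfsg.Agent.Transfer.hasNormalPComplement_iff_exists.1 (h.complement _ hJ)
  have hP := h.half_central hm
  have hcard : Nat.card (K.map (Subgroup.centralizer ({σ ^ (r + 1)} : Set G)).subtype) = Nat.card K :=
    (Nat.card_congr (K.equivMapOfInjective _ (Subgroup.centralizer ({σ ^ (r + 1)} : Set G)).subtype_injective).toEquiv).symm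
  have hk' : 2 ^ k = Nat.card (P : Subgroup G) := by
    have h1 := h.card_centralizer_rotation (h.gen_pow_mem (r + 1))
      (by intro e; rw [e, orderOf_one] at hJ; omega)
    rw [inf_eq_left.2 hP] at h1
    rw [← h1]
    congr 1
    rw [← K.card_mul_index, hk, Nat.factorization_mul Nat.card_pos.ne' (by positivity),
      Finsupp.add_apply, Nat.factorization_eq_zero_of_not_dvd hK,
      Nat.Prime.factorization_pow Nat.prime_two, Finsupp.single_eq_same, zero_add]
  refine ⟨K.map (Subgroup.centralizer ({σ ^ (r + 1)} : Set G)).subtype, hcard.symm ▸ hK, Subgroup.map_subtype_le K, ?_, hP, ?_, ?_⟩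
  · intro c hc
    refine Subgroup.mem_normalizer_iff.2 fun w => ⟨?_, ?_⟩
    · rintro ⟨v, hv, rfl⟩
      exact ⟨⟨c, hc⟩ * v * ⟨c, hc⟩⁻¹, hKn.conj_mem v hv _, by simp⟩
    · rintro ⟨v, hv, e⟩
      refine ⟨⟨c, hc⟩⁻¹ * v * ⟨c, hc⟩, hKn.conj_mem' v hv _, ?_⟩
      simp only [Subgroup.coe_subtype, Subgroup.coe_mul, Subgroup.coe_inv] at e ⊢
      rw [e]; group
  · refine Subgroup.inf_eq_bot_of_coprime ?_
    rw [hcard, ← hk']
    exact Nat.Coprime.pow_right _ (Nat.prime_two.coprime_iff_not_dvd.2 hK).symm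
  · rw [hcard, ← hk', ← hk]
    exact K.card_mul_index.symm

theorem Odd2.mul_bijective {L C Q : Subgroup G} (o : Odd2 L C Q) :
    Function.Bijective fun q : L × Q =>
      (⟨(q.1 : G) * (q.2 : G), C.mul_mem (o.le q.1.2) (o.ple q.2.2)⟩ : C) := by
  classical
  cases nonempty_fintype G
  rw [Fintype.bijective_iff_injective_and_card]
  refine ⟨?_, by rw [Fintype.card_prod]; simp only [← Nat.card_eq_fintype_card, o.card]⟩
  rintro ⟨l, p⟩ ⟨l', p'⟩ e
  have e' : (l : G) * p = l' * p' := congrArg Subtype.val e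
  have hmem : (l' : G)⁻¹ * l = (p' : G) * (p : G)⁻¹ := by
    rw [inv_mul_eq_iff_eq_mul, ← mul_assoc, ← e', mul_inv_cancel_right]
  have h1 : (l' : G)⁻¹ * l ∈ L ⊓ Q :=
    ⟨L.mul_mem (L.inv_mem l'.2) l.2, hmem ▸ Q.mul_mem p'.2 (Q.inv_mem p.2)⟩
  rw [o.disj, Subgroup.mem_bot] at h1
  rw [h1, eq_comm, mul_inv_eq_one] at hmem
  exact Prod.ext (Subtype.ext (inv_mul_eq_one.1 h1).symm) (Subtype.ext hmem.symm)

/-- Counting pairs of involutions with product in a coset. -/
theorem coset_pairs [Fintype G] {L C Q : Subgroup G} [Fintype L] [Fintype Q] (o : Odd2 L C Q)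
    {y : G} (hyQ : y ∈ Q)
    (hloc : ∀ a : G, ∀ l : L, orderOf a = 2 → orderOf (a * ((l : G) * y)) = 2 → a ∈ C) :
    ∑ a ∈ Finset.univ.filter (fun a : G => orderOf a = 2), ∑ l : L,
        (if orderOf (a * ((l : G) * y)) = 2 then (1 : ℂ) else 0) =
      ∑ p : Q, (invCount L (p : G) : ℂ) * (invCount L ((p : G) * y) : ℂ) := by
  classical
  cases nonempty_fintype C
  have h1 : ∑ a ∈ Finset.univ.filter (fun a : G => orderOf a = 2), ∑ l : L,
        (if orderOf (a * ((l : G) * y)) = 2 then (1 : ℂ) else 0) =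
      ∑ c : C, if orderOf (c : G) = 2 then ∑ l : L,
        (if orderOf ((c : G) * ((l : G) * y)) = 2 then (1 : ℂ) else 0) else 0 := by
    conv_rhs => rw [← Finset.sum_filter]
    refine (Finset.sum_bij_ne_zero (fun (c : C) _ _ => (c : G))
      (fun c hc _ => Finset.mem_filter.2 ⟨Finset.mem_univ _, (Finset.mem_filter.1 hc).2⟩)
      (fun c _ _ c' _ _ e => by exact Subtype.ext e) (fun a ha hne => ?_) (fun c _ _ => rfl)).symm
    obtain ⟨l, -, hl⟩ := Finset.exists_ne_zero_of_sum_ne_zero hne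
    have haC := hloc a l (Finset.mem_filter.1 ha).2 (of_not_not fun h => hl (if_neg h))
    exact ⟨⟨a, haC⟩, Finset.mem_filter.2 ⟨Finset.mem_univ _, (Finset.mem_filter.1 ha).2⟩, hne, rfl⟩
  rw [h1, ← Fintype.sum_bijective _ o.mul_bijective _ _ (fun _ => rfl), Fintype.sum_prod_type,
    Finset.sum_comm]
  refine Finset.sum_congr rfl fun p _ => ?_
  have hI : ∀ x : G, (invCount L x : ℂ) = ∑ l : L, if orderOf ((l : G) * x) = 2 then (1 : ℂ) else 0 :=
    fun x => by
      rw [invCount, Finset.sum_boole, Nat.card_eq_fintype_card, Fintype.card_subtype]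
  rw [hI, Finset.sum_mul]
  refine Finset.sum_congr rfl fun l' _ => ?_
  rw [ite_mul, one_mul, zero_mul, hI]
  refine if_congr Iff.rfl ?_ rfl
  refine Fintype.sum_equiv ((sylowConj (o.norm (o.ple p.2))).toEquiv.trans (Equiv.mulLeft l')) _ _
    fun l => ?_
  simp only [Equiv.trans_apply, MulEquiv.toEquiv_eq_coe, MulEquiv.coe_toEquiv, Equiv.coe_mulLeft,
    Subgroup.coe_mul, sylowConj_val]
  congr 3
  group

/-- The pair equation at one coset. -/
theorem coset_equation (hM : IsPModular 2 M) [Fintype G] {L C Q : Subgroup G} [Fintype L]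
    [Fintype Q] (o : Odd2 L C Q) {t y : G} (ht : orderOf t = 2)
    (hone : ∀ z : G, orderOf z = 2 → IsConj t z) (hy : ∃ k : ℕ, orderOf y = 2 ^ k) (hyQ : y ∈ Q)
    (hcy : Subgroup.centralizer ({y} : Set G) ≤ C)
    (hidx : ∃ k : ℕ, (L.subgroupOf (Subgroup.centralizer ({y} : Set G))).index = 2 ^ k)
    (hloc : ∀ a : G, ∀ l : L, orderOf a = 2 → orderOf (a * ((l : G) * y⁻¹)) = 2 → a ∈ C) :
    (Nat.card G : ℂ) * (Nat.card L : ℂ) * (∑ᶠ χ ∈ principalBlock M G,
        (χ : G → ℂ) t ^ 2 / (χ : G → ℂ) 1 * (χ : G → ℂ) y) =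
      (Nat.card (Subgroup.centralizer ({t} : Set G)) : ℂ) ^ 2 *
        ∑ p : Q, (invCount L (p : G) : ℂ) * (invCount L ((p : G) * y⁻¹) : ℂ) := by
  classical
  have hyN : y ∈ Subgroup.normalizer (L : Set G) := o.norm (o.ple hyQ)
  have hsum : ∑ l : L, ∑ χ : IrrCharacter G,
      (χ : G → ℂ) t ^ 2 / (χ : G → ℂ) 1 * (χ : G → ℂ) ((l : G) * y) =
      (Nat.card L : ℂ) * ∑ᶠ χ ∈ principalBlock M G,
        (χ : G → ℂ) t ^ 2 / (χ : G → ℂ) 1 * (χ : G → ℂ) y := by
    rw [Finset.sum_comm, finsum_mem_block, Finset.mul_sum, Finset.sum_filter]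
    refine Finset.sum_congr rfl fun χ _ => ?_
    rw [← Finset.mul_sum, coset_sum hM L hy hyN (hcy.trans o.norm) o.odd hidx χ]
    split_ifs <;> ring
  rw [mul_assoc, ← hsum, Finset.mul_sum]
  simp only [pair_function, Fintype.sum_prod_type]
  rw [Finset.sum_comm,
    conj_sum t ht hone (fun a => ∑ l : L, ∑ k : G, if a * (k * t * k⁻¹) = ((l : G) * y)⁻¹ then
      (1 : ℂ) else 0)]
  rw [Finset.sum_congr rfl fun a _ => Finset.sum_comm (γ := L) (α := G),
    Finset.sum_congr rfl fun a _ => conj_sum t ht hone (fun b => ∑ l : L,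
      if a * b = ((l : G) * y)⁻¹ then (1 : ℂ) else 0), ← Finset.mul_sum, ← mul_assoc, sq]
  congr 1
  rw [← coset_pairs o (inv_mem hyQ) hloc]
  refine Finset.sum_congr rfl fun a ha => ?_
  have hai : a⁻¹ = a := inv_eq_of_mul_eq_one_left (by
    rw [← _root_.pow_two, ← (Finset.mem_filter.1 ha).2, pow_orderOf_eq_one])
  rw [Finset.sum_comm]
  refine Fintype.sum_equiv ((Equiv.inv L).trans (sylowConj (inv_mem hyN)).toEquiv) _ _ fun l => ?_
  simp only [Equiv.trans_apply, MulEquiv.toEquiv_eq_coe, MulEquiv.coe_toEquiv, Equiv.inv_apply,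
    sylowConj_val, Subgroup.coe_inv]
  have e : ∀ b : G, a * b = ((l : G) * y)⁻¹ ↔ b = a * (y⁻¹ * (l : G)⁻¹ * y⁻¹⁻¹ * y⁻¹) := fun b => by
    rw [← eq_inv_mul_iff_mul_eq, hai]
    refine Eq.congr_right (congrArg (a * ·) ?_)
    group
  simp only [e, Finset.sum_ite_eq', Finset.mem_filter, Finset.mem_univ, true_and]

theorem Data.sum_elements (h : Data P σ m) {τ : G} (hτ : τ ∈ (P : Subgroup G))
    (hτσ : τ * σ * τ⁻¹ = σ⁻¹) [Fintype ↥(P : Subgroup G)] (F : G → ℂ) :
    ∑ p : ↥(P : Subgroup G), F p =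
      ∑ i ∈ Finset.range m, F (σ ^ i) + ∑ i ∈ Finset.range m, F (τ * σ ^ i) := by
  classical
  have hnot : τ ∉ Subgroup.zpowers σ := fun hh => by
    have h4 := h.four
    obtain ⟨k, rfl⟩ := Subgroup.mem_zpowers_iff.1 hh
    rw [← zpow_add_one, ← zpow_neg, ← zpow_add, show k + 1 + -k = (1 : ℤ) by omega, zpow_one,
      eq_inv_iff_mul_eq_one, ← _root_.pow_two] at hτσ
    have := orderOf_le_of_pow_eq_one (by norm_num) hτσ
    rw [h.order] at this
    omega
  let f : Fin m ⊕ Fin m → ↥(P : Subgroup G) := Sum.elim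
    (fun i : Fin m => ⟨σ ^ (i : ℕ), pow_mem h.mem _⟩)
    (fun i : Fin m => ⟨τ * σ ^ (i : ℕ), mul_mem hτ (pow_mem h.mem _)⟩)
  have hinj : ∀ i j : Fin m, σ ^ (i : ℕ) = σ ^ (j : ℕ) → i = j := fun i j e =>
    Fin.ext (pow_injOn_Iio_orderOf (by rw [Set.mem_Iio, h.order]; exact i.2)
      (by rw [Set.mem_Iio, h.order]; exact j.2) e)
  have hf : Function.Bijective f := by
    rw [Fintype.bijective_iff_injective_and_card]
    refine ⟨?_, by rw [Fintype.card_sum, Fintype.card_fin, ← Nat.card_eq_fintype_card, h.card]; ring⟩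
    rintro (i | i) (j | j) e <;> have e' := congrArg Subtype.val e <;> simp only [f, Sum.elim_inl,
      Sum.elim_inr] at e'
    · rw [hinj i j e']
    · exact absurd (eq_mul_inv_of_mul_eq e'.symm ▸ mul_mem (h.gen_pow_mem _) (inv_mem (h.gen_pow_mem _))) hnot
    · exact absurd (eq_mul_inv_of_mul_eq e' ▸ mul_mem (h.gen_pow_mem _) (inv_mem (h.gen_pow_mem _))) hnot
    · rw [hinj i j (mul_left_cancel e')]
  rw [← Fintype.sum_bijective f hf _ _ (fun _ => rfl), Fintype.sum_sum_type,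
    ← Fin.sum_univ_eq_sum_range, ← Fin.sum_univ_eq_sum_range]
  rfl

theorem Data.half_even (h : Data P σ m) {r : ℕ} (hm : m = 2 * (r + 1)) : Even (r + 1) := by
  obtain ⟨k, hk⟩ := h.pow_two
  have h4 := h.four
  rcases k with _ | _ | k
  · simp at hk; omega
  · simp at hk; omega
  · exact ⟨2 ^ k, by rw [hk, pow_succ, pow_succ] at hm; omega⟩

theorem Data.one_class (h : Data P σ m) {r : ℕ} (hm : m = 2 * (r + 1)) {τ : G}
    (hτ : τ ∈ (P : Subgroup G)) (hτσ : τ * σ * τ⁻¹ = σ⁻¹)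
    (h1 : IsConj (σ ^ (r + 1)) τ) (h2 : IsConj (σ ^ (r + 1)) (σ * τ)) {z : G} (hz : orderOf z = 2) :
    IsConj (σ ^ (r + 1)) z := by
  classical
  haveI : Fact (Nat.Prime 2) := ⟨Nat.prime_two⟩
  cases nonempty_fintype ↥(P : Subgroup G)
  obtain ⟨Q, hQ⟩ := (IsPGroup.of_card (p := 2) (n := 1) (by
    rw [Nat.card_zpowers, hz, pow_one]) : IsPGroup 2 (Subgroup.zpowers z)).exists_le_sylow
  obtain ⟨c, hc⟩ := MulAction.exists_smul_eq G Q P
  have hzP : c * z * c⁻¹ ∈ (P : Subgroup G) := by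
    rw [← hc]; exact ⟨z, hQ (Subgroup.mem_zpowers z), rfl⟩
  refine IsConj.trans ?_ (isConj_iff.2 ⟨c, rfl⟩ : IsConj z (c * z * c⁻¹)).symm
  set w := c * z * c⁻¹ with hw
  have hw2 : orderOf w = 2 := by
    rw [hw, show c * z * c⁻¹ = MulAut.conj c z from rfl, MulEquiv.orderOf_eq, hz]
  have hww : w * w = 1 := by rw [← _root_.pow_two, ← hw2, pow_orderOf_eq_one]
  by_cases hrot : w ∈ Subgroup.zpowers σ
  · rcases h.rotation_involution hm hrot hww with e | e
    · rw [e, orderOf_one] at hw2; omega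
    · rw [e]
  · obtain ⟨i, hi, e⟩ : ∃ i, i < m ∧ w = τ * σ ^ i := by
      by_contra hno
      push Not at hno
      have hs := h.sum_elements hτ hτσ (fun x => if x = w then (1 : ℂ) else 0)
      rw [Finset.sum_eq_single ⟨w, hzP⟩ (fun p _ hp => if_neg fun e => hp (Subtype.ext e))
        (fun hh => absurd (Finset.mem_univ _) hh), if_pos rfl,
        Finset.sum_eq_zero fun i _ => if_neg fun (e : σ ^ i = w) => hrot (e ▸ h.gen_pow_mem i),
        Finset.sum_eq_zero fun i hi => if_neg fun (e : τ * σ ^ i = w) =>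
          hno i (Finset.mem_range.1 hi) e.symm, add_zero] at hs
      exact one_ne_zero hs
    obtain ⟨q, hq | hq⟩ := Nat.even_or_odd' i
    · refine h1.trans (isConj_iff.2 ⟨(σ ^ q)⁻¹, ?_⟩)
      have e2 : (σ ^ q)⁻¹ * τ = τ * σ ^ q := by
        rw [← inv_pow, ← hτσ, conj_pow, inv_mul_cancel_right]
      rw [e, e2, inv_inv, mul_assoc, ← pow_add, hq, two_mul]
    · refine h2.trans (isConj_iff.2 ⟨(σ ^ (q + 1))⁻¹, ?_⟩)
      have e2 : (σ ^ q)⁻¹ * τ = τ * σ ^ q := by
        rw [← inv_pow, ← hτσ, conj_pow, inv_mul_cancel_right]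
      rw [e, inv_inv, show (σ ^ (q + 1))⁻¹ * (σ * τ) = (σ ^ q)⁻¹ * τ by rw [pow_succ']; group, e2,
        mul_assoc, ← pow_add, show q + (q + 1) = i by omega]

/-- The order formula. -/
theorem order_formula (hM : IsPModular 2 M) (h : Data P σ m) {r : ℕ} (hm : m = 2 * (r + 1))
    (hr0 : 0 < r) (hr2 : r ≠ 2) {τ : G} (hτ : τ ∈ (P : Subgroup G)) (hτo : orderOf τ = 2)
    (hτσ : τ * σ * τ⁻¹ = σ⁻¹)
    (h1 : IsConj (σ ^ (r + 1)) τ) (h2 : IsConj (σ ^ (r + 1)) (σ * τ))
    {χ : IrrCharacter G} (hχB : χ ∈ principalBlock M G) (hχ1 : (χ : G → ℂ) ≠ fun _ => 1)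
    {δ : ℤ} (hδ : δ = 1 ∨ δ = -1) (hval : ∀ l : ℕ, 0 < l → l < m → (χ : G → ℂ) (σ ^ l) = δ) :
    (charDegree (χ : G → ℂ) : ℤ) ≠ δ ∧
      (Nat.card G : ℚ) * ((charDegree (χ : G → ℂ) : ℚ) - δ) ^ 2 =
        2 * (charDegree (χ : G → ℂ) : ℚ) * ((charDegree (χ : G → ℂ) : ℚ) + δ) *
          (Nat.card (Subgroup.centralizer ({σ ^ (r + 1)} : Set G)) : ℚ) ^ 3 *
          (1 / (Nat.card (Subgroup.centralizer ({σ ^ (r + 1), τ} : Set G)) : ℚ) +
            1 / (Nat.card (Subgroup.centralizer ({σ ^ (r + 1), σ * τ} : Set G)) : ℚ)) ^ 2 := by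
  classical
  haveI : Fact (Nat.Prime 2) := ⟨Nat.prime_two⟩
  cases nonempty_fintype G
  cases nonempty_fintype ↥(P : Subgroup G)
  obtain ⟨L, o⟩ := h.exists_odd2 hm
  cases nonempty_fintype L
  set J := σ ^ (r + 1) with hJdef
  have hJ : orderOf J = 2 := h.orderOf_half hm
  have hJJ : J * J = 1 := by rw [← _root_.pow_two, ← hJ, pow_orderOf_eq_one]
  have hone : ∀ z : G, orderOf z = 2 → IsConj J z := fun z hz => h.one_class hm hτ hτσ h1 h2 hz
  have heven := h.half_even hm
  have hτJ : τ * J = J * τ := Subgroup.mem_centralizer_singleton_iff.1 (h.half_central hm hτ)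
  have hLC : ∀ l : L, (l : G) * J = J * l := fun l =>
    Subgroup.mem_centralizer_singleton_iff.1 (o.le l.2)
  have hbot : ∀ x : G, x ∈ L → x ∈ (P : Subgroup G) → x = 1 := fun x hx hx' => by
    have h0 : x ∈ L ⊓ (P : Subgroup G) := ⟨hx, hx'⟩
    rwa [o.disj, Subgroup.mem_bot] at h0
  -- rotations
  have hI0 : ∀ x ∈ Subgroup.zpowers σ, x ≠ J → invCount L x = 0 := by
    intro x hx hxJ
    rw [invCount, Nat.card_eq_zero]
    refine .inl ⟨fun l => ?_⟩
    obtain ⟨hsq, hne⟩ := orderOf_eq_prime_iff.1 l.2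
    have hxP := h.zpowers_le hx
    have hmem : x * x ∈ L := by
      have e : x * x = (x * ((l.1 : L) : G) * x⁻¹)⁻¹ * ((l.1 : L) : G)⁻¹ *
          ((((l.1 : L) : G) * x) ^ 2) * 1 := by rw [_root_.pow_two]; group
      rw [e, hsq, mul_one, mul_one]
      have hu := (Subgroup.mem_normalizer_iff.1 (o.norm (o.ple hxP)) _).1 l.1.2
      have hv : x * ((l.1 : L) : G) * x⁻¹ ∈ L := hu
      exact L.mul_mem (L.inv_mem hv) (L.inv_mem l.1.2)
    rcases h.rotation_involution hm hx (hbot _ hmem (mul_mem hxP hxP)) with e | e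
    · subst e
      rw [mul_one] at hsq hne
      exact o.odd ((orderOf_eq_prime hsq hne) ▸ Subgroup.orderOf_dvd_natCard _ l.1.2)
    · exact hxJ e
  -- reflections
  set A := invCount L τ
  set B := invCount L (σ * τ)
  have hshift : ∀ i, τ * σ ^ (i + 2) = σ⁻¹ * (τ * σ ^ i) * σ⁻¹⁻¹ := fun i => by
    have hts : τ * σ = σ⁻¹ * τ := mul_inv_eq_iff_eq_mul.1 hτσ
    rw [show i + 2 = 1 + i + 1 by omega, pow_succ, pow_add, pow_one, inv_inv, ← mul_assoc τ,
      ← mul_assoc τ σ, hts]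
    group
  have hσN : σ⁻¹ ∈ Subgroup.normalizer (L : Set G) := o.norm (o.ple (inv_mem h.mem))
  have hIref : ∀ i, invCount L (τ * σ ^ i) = if Even i then A else B := by
    intro i
    induction i using Nat.twoStepInduction with
    | zero => simp [A]
    | one =>
      rw [if_neg (by simp), pow_one]
      show invCount L (τ * σ) = invCount L (σ * τ)
      rw [← invCount_conj L hσN (σ * τ)]
      congr 1
      group
    | more i ih _ =>
      rw [hshift i, invCount_conj L hσN, ih]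
      simp [Nat.even_add]
  have hrot0 : ∀ d i, σ ^ d ≠ 1 → invCount L (σ ^ i) * invCount L (σ ^ i * σ ^ d) = 0 := by
    intro d i hd
    by_cases hi : σ ^ i = J
    · rw [hI0 _ (mul_mem (h.gen_pow_mem _) (h.gen_pow_mem _)) fun e =>
        hd (mul_left_cancel (e.trans (by rw [hi, mul_one] : J = σ ^ i * 1))), mul_zero]
    · rw [hI0 _ (h.gen_pow_mem _) hi, zero_mul]
  have hpairs : ∀ d, σ ^ d ≠ 1 →
      ∑ p : ↥(P : Subgroup G), (invCount L (p : G) : ℂ) * (invCount L ((p : G) * σ ^ d) : ℂ) =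
      ∑ i ∈ Finset.range m, ((if Even i then A else B : ℕ) : ℂ) *
        ((if Even (i + d) then A else B : ℕ) : ℂ) := by
    intro d hd
    rw [h.sum_elements hτ hτσ (fun x => (invCount L x : ℂ) * (invCount L (x * σ ^ d) : ℂ)),
      Finset.sum_eq_zero fun i _ => by rw [← Nat.cast_mul, hrot0 d i hd, Nat.cast_zero], zero_add]
    refine Finset.sum_congr rfl fun i _ => ?_
    rw [mul_assoc, ← pow_add, hIref, hIref]
  have hsum2 : ∀ (f : ℕ → ℂ) (u v : ℂ), (∀ i, Even i → f i = u) → (∀ i, ¬ Even i → f i = v) →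
      ∀ k, ∑ i ∈ Finset.range (2 * k), f i = (k : ℂ) * (u + v) := fun f u v hu hv k => by
    induction k with
    | zero => simp
    | succ k ih =>
      rw [show 2 * (k + 1) = 2 * k + 1 + 1 by ring, Finset.sum_range_succ, Finset.sum_range_succ,
        ih, hu _ (even_two_mul k), hv _ (by simp)]
      push_cast
      ring
  -- the two equations
  have hJne : J ≠ 1 := fun e => by rw [e, orderOf_one] at hJ; omega
  have h4 := h.four
  have hσ1 : σ ≠ 1 := fun e => by
    have := h.order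
    rw [e, orderOf_one] at this
    omega
  have hσJ : σ * J = J * σ := (Commute.self_pow σ (r + 1)).eq
  have hidxJ : ∃ k : ℕ, (L.subgroupOf (Subgroup.centralizer ({J} : Set G))).index = 2 ^ k := by
    obtain ⟨k, hk⟩ := IsPGroup.iff_card.1 P.isPGroup'
    refine ⟨k, ?_⟩
    have := (L.subgroupOf (Subgroup.centralizer ({J} : Set G))).card_mul_index
    rw [Nat.card_congr (Subgroup.subgroupOfEquivOfLe o.le).toEquiv, o.card, hk] at this
    exact Nat.eq_of_mul_eq_mul_left Nat.card_pos this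
  have hCσ : Subgroup.centralizer ({σ} : Set G) ≤ Subgroup.centralizer ({J} : Set G) := fun x hx =>
    Subgroup.mem_centralizer_singleton_iff.2
      ((show Commute x σ from Subgroup.mem_centralizer_singleton_iff.1 hx).pow_right _).eq
  have hidxσ : ∃ k : ℕ, (L.subgroupOf (Subgroup.centralizer ({σ} : Set G))).index = 2 ^ k := by
    obtain ⟨k, hk⟩ := hidxJ
    have hdvd : L.relIndex (Subgroup.centralizer ({σ} : Set G)) ∣ 2 ^ k := by
      haveI : (L.subgroupOf (Subgroup.centralizer ({J} : Set G))).Normal :=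
        ⟨fun x hx c => Subgroup.mem_subgroupOf.2
          ((Subgroup.mem_normalizer_iff.1 (o.norm c.2) _).1 (Subgroup.mem_subgroupOf.1 hx))⟩
      rw [← Subgroup.relIndex_subgroupOf hCσ, ← hk]
      exact Subgroup.relIndex_dvd_index_of_normal _ _
    obtain ⟨j, -, hj⟩ := (Nat.dvd_prime_pow Nat.prime_two).1 hdvd
    exact ⟨j, hj⟩
  have hloc : ∀ d : ℕ, (∃ e : ℕ, σ ^ (d * e) = J) → ∀ a : G, ∀ l : L, orderOf a = 2 →
      orderOf (a * ((l : G) * (σ ^ d)⁻¹)) = 2 →
      a ∈ Subgroup.centralizer ({J} : Set G) := by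
    rintro d ⟨e, he⟩ a l ha hb
    have hai : a⁻¹ = a := inv_eq_of_mul_eq_one_left (by
      rw [← _root_.pow_two, ← ha, pow_orderOf_eq_one])
    set w := (l : G) * (σ ^ d)⁻¹ with hwdef
    have hinv : a * w * a⁻¹ = w⁻¹ := by
      rw [eq_inv_iff_mul_eq_one, hai]
      calc a * w * a * w = a * w * (a * w) := by group
        _ = 1 := by rw [← _root_.pow_two, ← hb, pow_orderOf_eq_one]
    set C := Subgroup.centralizer ({J} : Set G)
    have hmemC : w ∈ C := C.mul_mem (o.le l.2) (C.inv_mem (o.ple (pow_mem h.mem d)))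
    haveI hLn : (L.subgroupOf C).Normal :=
      ⟨fun x hx c => Subgroup.mem_subgroupOf.2
        ((Subgroup.mem_normalizer_iff.1 (o.norm c.2) _).1 (Subgroup.mem_subgroupOf.1 hx))⟩
    have hσdC : (σ ^ d)⁻¹ ∈ C := C.inv_mem (o.ple (pow_mem h.mem d))
    have hq : QuotientGroup.mk' (L.subgroupOf C) ⟨w, hmemC⟩ =
        QuotientGroup.mk' (L.subgroupOf C) ⟨(σ ^ d)⁻¹, hσdC⟩ := by
      refine QuotientGroup.eq_iff_div_mem.2 ?_
      simp [Subgroup.mem_subgroupOf, hwdef, div_eq_mul_inv]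
    have hwe : ∃ l0 : L, w ^ e = (l0 : G) * J := by
      have hq' := congrArg (fun x => x ^ e) hq
      simp only [← map_pow] at hq'
      have hd := QuotientGroup.eq_iff_div_mem.1 hq'
      simp only [Subgroup.mem_subgroupOf, div_eq_mul_inv, Subgroup.coe_mul, Subgroup.coe_inv,
        SubmonoidClass.coe_pow, inv_pow, inv_inv, ← pow_mul, he] at hd
      refine ⟨⟨_, hd⟩, ?_⟩
      show w ^ e = w ^ e * J * J
      rw [mul_assoc, hJJ, mul_one]
    obtain ⟨l0, hl0⟩ := hwe
    have hpow : w ^ (e * Nat.card L) = J := by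
      rw [pow_mul, hl0, (show Commute (l0 : G) J from hLC l0).mul_pow,
        show ((l0 : G)) ^ Nat.card L = 1 by
          rw [← SubmonoidClass.coe_pow, pow_card_eq_one', OneMemClass.coe_one], one_mul]
      obtain ⟨q, hq⟩ : Odd (Nat.card L) := Nat.not_even_iff_odd.1 fun hh => o.odd hh.two_dvd
      rw [hq, pow_add, pow_mul, _root_.pow_two, hJJ, one_pow, one_mul, pow_one]
    refine Subgroup.mem_centralizer_singleton_iff.2 (mul_inv_eq_iff_eq_mul.1 ?_)
    rw [← hpow, ← conj_pow, hinv, inv_pow, hpow]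
    exact inv_eq_of_mul_eq_one_left hJJ
  have hJinv : J⁻¹ = J := inv_eq_of_mul_eq_one_left hJJ
  have eqJ := coset_equation hM o hJ hone ⟨1, by rw [hJ, pow_one]⟩
    (h.zpowers_le (h.gen_pow_mem (r + 1))) le_rfl hidxJ (hloc (r + 1) ⟨1, by rw [mul_one]⟩)
  obtain ⟨k, hk⟩ := h.pow_two
  have eqσ := coset_equation hM o hJ hone ⟨k, by rw [h.order, hk]⟩ h.mem hCσ hidxσ
    (by simpa using hloc 1 ⟨r + 1, by rw [one_mul]⟩)
  rw [hJinv, hJdef, hpairs (r + 1) hJne, hm, hsum2 _ ((A : ℂ) * A) ((B : ℂ) * B)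
    (fun i hi => by rw [if_pos hi, if_pos (hi.add heven)])
    (fun i hi => by
      rw [if_neg hi, if_neg fun hh => hi ((Nat.even_add.1 hh).2 heven)])] at eqJ
  rw [show σ⁻¹ = σ ^ (m - 1) from inv_eq_of_mul_eq_one_left (by
      rw [← pow_succ, Nat.sub_add_cancel (by omega), ← h.order, pow_orderOf_eq_one]),
    hpairs (m - 1) (pow_ne_one_of_lt_orderOf (by omega) (by rw [h.order]; omega)), hm,
    hsum2 _ ((A : ℂ) * B) ((B : ℂ) * A)
    (fun i hi => by
      rw [if_pos hi, if_neg (by rw [Nat.even_add]; simp [hi, Nat.even_sub (show 1 ≤ 2 * (r + 1) by omega)])])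
    (fun i hi => by
      rw [if_neg hi, if_pos (by rw [Nat.even_add]; simp [hi, Nat.even_sub (show 1 ≤ 2 * (r + 1) by omega)])])]
    at eqσ
  -- the block
  have hζ : IsPrimitiveRoot (Complex.exp (2 * Real.pi * Complex.I / m)) m :=
    Complex.isPrimitiveRoot_exp m (by omega)
  generalize Complex.exp (2 * Real.pi * Complex.I / m) = ζ at hζ
  obtain ⟨a, b, c, η, d1, d2, d3, hd1, hd2, hd3, hinj, hao, hbo, hco, hab, hac, hbc, hη, hset,
    -, hv, hrel⟩ := dihedral_block hM h hm hr0 hr2 hζ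
  have hneg : (-1 : ℂ) ^ (r + 1 + 1) = -1 := by rw [pow_succ, heven.neg_one_pow, one_mul]
  have hroot : ζ ^ (r + 1) = -1 := by
    have e : (ζ ^ (r + 1)) ^ 2 = 1 := by
      rw [← pow_mul, show (r + 1) * 2 = m by omega, hζ.pow_eq_one]
    exact (sq_eq_one_iff.1 e).resolve_left (hζ.pow_ne_one_of_pos_of_lt (by omega) (by omega))
  have hχa : χ = a ∧ δ = d1 := by
    have hmem := hset ▸ hχB
    have hl1 := hval 1 one_pos (by omega)
    have hl2 := hval 2 two_pos (by omega)
    rcases hmem with rfl | rfl | rfl | rfl | ⟨j, rfl⟩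
    · exact absurd rfl hχ1
    · exact ⟨rfl, by exact_mod_cast hl1.symm.trans (hv 1 one_pos (by omega)).1⟩
    · exfalso
      have e1 := hl1.symm.trans (hv 1 one_pos (by omega)).2.1
      have e2 := hl2.symm.trans (hv 2 two_pos (by omega)).2.1
      rw [show ((-1 : ℂ)) ^ (1 + 1) = 1 by norm_num, mul_one] at e1
      rw [show ((-1 : ℂ)) ^ (2 + 1) = -1 by norm_num, mul_neg, mul_one] at e2
      have : ((d2 : ℤ) : ℂ) = ((-d2 : ℤ) : ℂ) := by push_cast; exact e1.symm.trans e2
      have := Int.cast_injective this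
      omega
    · exfalso
      have e1 := hl1.symm.trans (hv 1 one_pos (by omega)).2.2.1
      have e2 := hl2.symm.trans (hv 2 two_pos (by omega)).2.2.1
      rw [show ((-1 : ℂ)) ^ (1 + 1) = 1 by norm_num, mul_one] at e1
      rw [show ((-1 : ℂ)) ^ (2 + 1) = -1 by norm_num, mul_neg, mul_one] at e2
      have : ((d3 : ℤ) : ℂ) = ((-d3 : ℤ) : ℂ) := by push_cast; exact e1.symm.trans e2
      have := Int.cast_injective this
      omega
    · exfalso
      have e := (hval (r + 1) (by omega) (by omega)).symm.trans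
        ((hv (r + 1) (by omega) (by omega)).2.2.2 j)
      rw [mul_comm ((j : ℕ) + 1) (r + 1), pow_mul, hroot] at e
      rcases neg_one_pow_eq_or ℂ ((j : ℕ) + 1) with e' | e' <;> rw [e'] at e <;>
        rcases hd1 with rfl | rfl <;> rcases hδ with rfl | rfl <;> norm_num at e
  obtain ⟨rfl, rfl⟩ := hχa
  set S : Finset (IrrCharacter G) := insert (trivialIrr G) (insert χ (insert b (insert c
      (Finset.univ.image η))))
  have hblock : ∀ F : IrrCharacter G → ℂ, ∑ᶠ ξ ∈ principalBlock M G, F ξ =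
      F (trivialIrr G) + F χ + F b + F c + ∑ j, F (η j) := fun F => by
    rw [finsum_mem_block, show Finset.univ.filter (fun ξ : IrrCharacter G =>
        ξ ∈ principalBlock M G) = S by rw [hset]; ext ξ; simp [S, eq_comm],
      Finset.sum_insert (by simp [hao.symm, hbo.symm, hco.symm, fun j => (hη j).2.2.2]),
      Finset.sum_insert (by simp [hab, hac, fun j => (hη j).1]),
      Finset.sum_insert (by simp [hbc, fun j => (hη j).2.1]),
      Finset.sum_insert (by simp [fun j => (hη j).2.2.1]),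
      Finset.sum_image fun i _ j _ e => hinj e]
    ring
  have hδ2 : (δ : ℂ) * δ = 1 := by rcases hδ with rfl | rfl <;> norm_num
  have hdeg : ∀ ξ : IrrCharacter G, (ξ : G → ℂ) 1 ≠ 0 := fun ξ => by
    rw [charDeg_spec' ξ]; exact Nat.cast_ne_zero.2 (charDeg_pos ξ).ne'
  set z : Fin r → ℂ := fun j => ζ ^ ((j : ℕ) + 1) + (ζ ^ ((j : ℕ) + 1))⁻¹
  set q : Fin r → ℂ := fun j => (-1 : ℂ) ^ ((j : ℕ) + 1)
  set x : ℂ := (χ : G → ℂ) 1
  set X : ℂ := 1 + δ * x
  obtain ⟨vb, vc⟩ : (b : G → ℂ) J = -(d2 : ℂ) ∧ (c : G → ℂ) J = -(d3 : ℂ) :=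
    ⟨by rw [hJdef, (hv (r + 1) (by omega) (by omega)).2.1, hneg, mul_neg, mul_one],
     by rw [hJdef, (hv (r + 1) (by omega) (by omega)).2.2.1, hneg, mul_neg, mul_one]⟩
  have va : (χ : G → ℂ) J = δ := hval _ (by omega) (by omega)
  have vη : ∀ j, (η j : G → ℂ) J = 2 * δ * q j := fun j => by
    rw [hJdef, (hv (r + 1) (by omega) (by omega)).2.2.2 j, mul_comm ((j : ℕ) + 1) (r + 1), pow_mul,
      hroot]
    simp only [q]
    rcases neg_one_pow_eq_or ℂ ((j : ℕ) + 1) with e' | e' <;> rw [e'] <;> norm_num <;> ring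
  have wb : (b : G → ℂ) σ = (d2 : ℂ) := by simpa using (hv 1 one_pos (by omega)).2.1
  have wc : (c : G → ℂ) σ = (d3 : ℂ) := by simpa using (hv 1 one_pos (by omega)).2.2.1
  have wa : (χ : G → ℂ) σ = δ := by simpa using hval 1 one_pos (by omega)
  have wη : ∀ j, (η j : G → ℂ) σ = δ * z j := fun j => by
    have e := (hv 1 one_pos (by omega)).2.2.2 j
    simpa [z] using e
  have hη1 : ∀ j, (η j : G → ℂ) 1 = δ * X := fun j => by
    have e := (hrel 1 (by simp) j).2
    simp only [X, x]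
    linear_combination (-(δ : ℂ)) * e - (η j : G → ℂ) 1 * hδ2
  have hX : X ≠ 0 := fun e => hdeg (η ⟨0, hr0⟩) (by rw [hη1, e, mul_zero])
  have hbc1 : (d2 : ℂ) * (b : G → ℂ) 1 + (d3 : ℂ) * (c : G → ℂ) 1 = -X := by
    have e := (hrel 1 (by simp) ⟨0, hr0⟩).1
    simp only [X, x]
    linear_combination e
  have hzero : ∀ y : G, y ≠ 1 → (∃ k : ℕ, orderOf y = 2 ^ k) →
      ∑ᶠ ξ ∈ principalBlock M G, (ξ : G → ℂ) y * (ξ : G → ℂ) 1 = 0 := fun y hy hy2 => by
    refine Eq.trans (finsum_congr fun ξ => finsum_congr fun _ => ?_)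
      (principal_pElem_orth hM hy2 (x := (1 : G)) ⟨0, by rw [orderOf_one, pow_zero]⟩
        fun hc => hy (isConj_one_left.1 hc))
    rw [charDeg_spec' ξ, Complex.conj_natCast]
  have t1 : ∀ g, ((trivialIrr G : IrrCharacter G) : G → ℂ) g = 1 := fun _ => rfl
  have hq : ∑ j, q j = -1 := by
    have e := hzero J hJne ⟨1, by rw [hJ, pow_one]⟩
    rw [hblock] at e
    simp only [t1, va, vb, vc, vη, hη1] at e
    rw [Finset.sum_congr rfl (g := fun j => (2 * X) * q j) fun j _ => by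
      linear_combination 2 * q j * X * hδ2, ← Finset.mul_sum] at e
    have e' : 2 * X * (∑ j, q j + 1) = 0 := by
      simp only [X] at hbc1 e ⊢
      linear_combination e + hbc1
    exact eq_neg_of_add_eq_zero_left ((mul_eq_zero.1 e').resolve_left (mul_ne_zero two_ne_zero hX))
  have hz : ∑ j, z j = 0 := by
    have e := hzero σ hσ1 ⟨k, by rw [h.order, hk]⟩
    rw [hblock] at e
    simp only [t1, wa, wb, wc, wη, hη1] at e
    rw [Finset.sum_congr rfl (g := fun j => X * z j) fun j _ => by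
      linear_combination z j * X * hδ2, ← Finset.mul_sum] at e
    have e' : X * ∑ j, z j = 0 := by
      simp only [X] at hbc1 e ⊢
      linear_combination e - hbc1
    exact (mul_eq_zero.1 e').resolve_left hX
  have hkey : (x * X) * (∑ᶠ ξ ∈ principalBlock M G,
        (ξ : G → ℂ) J ^ 2 / (ξ : G → ℂ) 1 * (ξ : G → ℂ) J +
      ∑ᶠ ξ ∈ principalBlock M G, (ξ : G → ℂ) J ^ 2 / (ξ : G → ℂ) 1 * (ξ : G → ℂ) σ) =
      2 * δ * (δ * x - 1) ^ 2 := by
    rw [hblock, hblock]
    simp only [t1, va, vb, vc, vη, wa, wb, wc, wη, hη1]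
    have hδ0 : (δ : ℂ) ≠ 0 := left_ne_zero_of_mul_eq_one hδ2
    have ha1 : ∀ j, (2 * (δ : ℂ) * q j) ^ 2 / (δ * X) * (2 * δ * q j) = 8 * δ ^ 2 / X * q j := fun j => by
      have hq2 : q j * q j = 1 := by
        simp only [q]; rw [← pow_add, ← two_mul, pow_mul]; simp
      field_simp
      linear_combination (8 * q j) * hq2
    have ha2 : ∀ j, (2 * (δ : ℂ) * q j) ^ 2 / (δ * X) * (δ * z j) = 4 * δ ^ 2 / X * z j := fun j => by
      have hq2 : q j * q j = 1 := by
        simp only [q]; rw [← pow_add, ← two_mul, pow_mul]; simp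
      field_simp
      linear_combination (4 * z j) * hq2
    rw [Finset.sum_congr rfl fun j _ => ha1 j, Finset.sum_congr rfl fun j _ => ha2 j,
      ← Finset.mul_sum, ← Finset.mul_sum, hq, hz]
    have hb0 := hdeg b
    have hc0 := hdeg c
    have hx0 : x ≠ 0 := hdeg χ
    have e : x * X * (2 + 2 * (δ : ℂ) / x - 8 / X) = 2 * x * X + 2 * δ * X - 8 * x := by
      field_simp
    calc _ = x * X * (2 + 2 * (δ : ℂ) / x - 8 / X) := by
          rcases hδ with rfl | rfl <;> push_cast <;> ring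
      _ = _ := by
          rw [e]; simp only [X]
          rcases hδ with rfl | rfl <;> push_cast <;> ring
  -- cards
  set g : ℕ := Nat.card G
  set cJ : ℕ := Nat.card (Subgroup.centralizer ({J} : Set G))
  have hc : cJ = 4 * (r + 1) * Nat.card L := by rw [show cJ = _ from o.card, h.card, hm]; ring
  have hpair : ∀ w : G, w ∈ (P : Subgroup G) → w * w = 1 → w ∉ Subgroup.zpowers σ →
      Nat.card (Subgroup.centralizer ({J, w} : Set G)) * invCount L w = 4 * Nat.card L := by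
    intro w hw hww hwσ
    have hwL : w ∉ L := fun hh => hwσ (hbot w hh hw ▸ one_mem _)
    rw [← invCount_mul L hww hwL (o.norm (o.ple hw)) o.odd]
    let T : Finset G := {1, J, w, J * w}
    have hwJ : w * J = J * w := Subgroup.mem_centralizer_singleton_iff.1 (h.half_central hm hw)
    have hT : T.card = 4 := by
      simp only [T]
      rw [Finset.card_insert_of_notMem, Finset.card_insert_of_notMem, Finset.card_pair]
      · intro e
        exact hJne (mul_right_cancel (b := w) (by rw [one_mul, ← e]))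
      · simp only [Finset.mem_insert, Finset.mem_singleton]
        rintro (e | e)
        · exact hwσ (e ▸ h.gen_pow_mem _)
        · exact hwσ ((mul_left_cancel (a := J) (by rw [mul_one]; exact e) : (1 : G) = w) ▸ one_mem _)
      · simp only [Finset.mem_insert, Finset.mem_singleton]
        rintro (e | e | e)
        · exact hJne e.symm
        · exact hwσ (e ▸ one_mem _)
        · refine hwσ ?_
          rw [show w = J⁻¹ from eq_inv_of_mul_eq_one_right e.symm]
          exact inv_mem (h.gen_pow_mem _)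
    have hTC : ∀ p ∈ T, p ∈ (P : Subgroup G) ∧ p * w = w * p := by
      intro p hp
      simp only [T, Finset.mem_insert, Finset.mem_singleton] at hp
      have hJP : J ∈ (P : Subgroup G) := h.zpowers_le (h.gen_pow_mem _)
      rcases hp with rfl | rfl | rfl | rfl
      · exact ⟨one_mem _, by rw [one_mul, mul_one]⟩
      · exact ⟨hJP, hwJ.symm⟩
      · exact ⟨hw, rfl⟩
      · exact ⟨mul_mem hJP hw, by rw [← mul_assoc w J w, hwJ]⟩
    have hmemC : ∀ (l : ↥(L ⊓ Subgroup.centralizer ({w} : Set G))) (p : ↥T),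
        (l : G) * (p : G) ∈ Subgroup.centralizer ({J, w} : Set G) := by
      intro l p
      refine Subgroup.mem_centralizer_iff.2 fun v hv => ?_
      rcases hv with rfl | rfl
      · exact (Subgroup.mem_centralizer_singleton_iff.1 (Subgroup.mul_mem _ (o.le l.2.1)
          (o.ple (hTC p p.2).1))).symm
      · exact ((show Commute (l : G) v from Subgroup.mem_centralizer_singleton_iff.1 l.2.2).mul_left
          (hTC p p.2).2).symm.eq
    have hbij : Function.Bijective fun lp : ↥(L ⊓ Subgroup.centralizer ({w} : Set G)) × ↥T =>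
        (⟨_, hmemC lp.1 lp.2⟩ : Subgroup.centralizer ({J, w} : Set G)) := by
      constructor
      · rintro ⟨l, p⟩ ⟨l', p'⟩ e
        have e' := o.mul_bijective.1 (a₁ := (⟨l, l.2.1⟩, ⟨p, (hTC p p.2).1⟩))
          (a₂ := (⟨l', l'.2.1⟩, ⟨p', (hTC p' p'.2).1⟩))
          (Subtype.ext (congrArg Subtype.val e :))
        simp only [Prod.mk.injEq, Subtype.mk.injEq] at e'
        exact Prod.ext (Subtype.ext e'.1) (Subtype.ext e'.2)
      · rintro ⟨v, hv⟩
        have hvJ : v * J = J * v := (Subgroup.mem_centralizer_iff.1 hv J (by simp)).symm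
        have hvw : v * w = w * v := (Subgroup.mem_centralizer_iff.1 hv w (by simp)).symm
        obtain ⟨⟨l, p⟩, e⟩ := o.mul_bijective.2 ⟨v, Subgroup.mem_centralizer_singleton_iff.2 hvJ⟩
        have ev : (l : G) * p = v := congrArg Subtype.val e
        have e2 := o.mul_bijective.1
          (a₁ := (l, ⟨(p : G) * w, mul_mem p.2 hw⟩))
          (a₂ := (sylowConj (o.norm (o.ple hw)) l, ⟨w * p, mul_mem hw p.2⟩))
          (Subtype.ext (by
            show (l : G) * ((p : G) * w) = w * l * w⁻¹ * (w * p)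
            rw [← mul_assoc, ev, hvw, ← ev]; group))
        simp only [Prod.mk.injEq, Subtype.mk.injEq] at e2
        have hl := congrArg Subtype.val e2.1
        rw [sylowConj_val, eq_mul_inv_iff_mul_eq] at hl
        refine ⟨(⟨l, ⟨l.2, Subgroup.mem_centralizer_singleton_iff.2 hl⟩⟩, ⟨p, ?_⟩),
          Subtype.ext ev⟩
        simp only [T, Finset.mem_insert, Finset.mem_singleton]
        exact h.centralizer_reflection hm hw hwσ p.2 e2.2
    rw [← Nat.card_congr (Equiv.ofBijective _ hbij), Nat.card_prod, Nat.card_eq_finsetCard, hT]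
    ring
  have hτσ' : τ ∉ Subgroup.zpowers σ := fun hh => by
    rcases h.rotation_involution hm hh (by rw [← _root_.pow_two, ← hτo, pow_orderOf_eq_one]) with e | e
    · rw [e, orderOf_one] at hτo; omega
    · rw [e, ← hσJ, mul_inv_cancel_right, eq_inv_iff_mul_eq_one, ← _root_.pow_two] at hτσ
      have := orderOf_le_of_pow_eq_one (by norm_num) hτσ
      rw [h.order] at this
      omega
  set NT : ℕ := Nat.card (Subgroup.centralizer ({J, τ} : Set G))
  set NS : ℕ := Nat.card (Subgroup.centralizer ({J, σ * τ} : Set G))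
  have hA : NT * A = 4 * Nat.card L :=
    hpair τ hτ (by rw [← _root_.pow_two, ← hτo, pow_orderOf_eq_one]) hτσ'
  have hττ : τ * τ = 1 := by rw [← _root_.pow_two, ← hτo, pow_orderOf_eq_one]
  have hB : NS * B = 4 * Nat.card L := hpair (σ * τ) (mul_mem h.mem hτ) (by
      calc σ * τ * (σ * τ) = σ * (τ * σ * τ⁻¹) * (τ * τ) := by group
        _ = 1 := by rw [hτσ, hττ, mul_one, mul_inv_cancel])
    (fun hh => hτσ' (by
      have h0 := mul_mem (inv_mem (Subgroup.mem_zpowers σ)) hh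
      rwa [inv_mul_cancel_left] at h0))
  have hNT : (0 : ℚ) < NT := Nat.cast_pos.2 Nat.card_pos
  have hNS : (0 : ℚ) < NS := Nat.cast_pos.2 Nat.card_pos
  have hmain : (g : ℚ) * ((charDegree (χ : G → ℂ) : ℚ) - δ) ^ 2 =
      2 * (charDegree (χ : G → ℂ) : ℚ) * ((charDegree (χ : G → ℂ) : ℚ) + δ) * (cJ : ℚ) ^ 3 *
        (1 / (NT : ℚ) + 1 / (NS : ℚ)) ^ 2 := by
    have hE : (g : ℂ) * (Nat.card L : ℂ) * (2 * δ * ((δ : ℂ) * x - 1) ^ 2) =
        (x * X) * ((cJ : ℂ) ^ 2 * ((r + 1 : ℕ) * ((A : ℂ) + B) ^ 2)) := by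
      rw [← hkey]
      linear_combination (x * X) * eqJ + (x * X) * eqσ
    have hEq : (g : ℚ) * (Nat.card L : ℚ) *
        (2 * δ * ((δ : ℚ) * (charDegree (χ : G → ℂ) : ℚ) - 1) ^ 2) =
        ((charDegree (χ : G → ℂ) : ℚ) * (1 + δ * (charDegree (χ : G → ℂ) : ℚ))) *
          ((cJ : ℚ) ^ 2 * ((r + 1 : ℕ) * ((A : ℚ) + B) ^ 2)) := by
      simp only [X, x, charDeg_spec' χ] at hE
      exact_mod_cast hE
    have hAq : (A : ℚ) = 4 * (Nat.card L : ℚ) / NT := by
      rw [eq_div_iff hNT.ne']; exact_mod_cast (mul_comm A NT).trans hA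
    have hBq : (B : ℚ) = 4 * (Nat.card L : ℚ) / NS := by
      rw [eq_div_iff hNS.ne']; exact_mod_cast (mul_comm B NS).trans hB
    have hcq : (cJ : ℚ) = 4 * ((r + 1 : ℕ) : ℚ) * (Nat.card L : ℚ) := by exact_mod_cast hc
    have hL : (Nat.card L : ℚ) ≠ 0 := Nat.cast_ne_zero.2 Nat.card_pos.ne'
    rw [hAq, hBq] at hEq
    refine mul_left_cancel₀ (mul_ne_zero two_ne_zero hL) ?_
    rw [hcq] at hEq ⊢
    rcases hδ with rfl | rfl
    · push_cast at hEq ⊢
      linear_combination hEq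
    · push_cast at hEq ⊢
      linear_combination -hEq
  refine ⟨fun e => ?_, hmain⟩
  have hdq : (charDegree (χ : G → ℂ) : ℚ) = (δ : ℚ) := by exact_mod_cast e
  rw [hdq, sub_self] at hmain
  have hd1 : δ = 1 := by
    have := charDeg_pos χ
    omega
  rw [hd1] at hmain
  have hc0 : (0 : ℚ) < cJ := Nat.cast_pos.2 Nat.card_pos
  have hs : (0 : ℚ) < 1 / NT + 1 / NS := by positivity
  have : (0 : ℚ) < 2 * ((1 : ℤ) : ℚ) * (((1 : ℤ) : ℚ) + ((1 : ℤ) : ℚ)) * (cJ : ℚ) ^ 3 *
      (1 / (NT : ℚ) + 1 / (NS : ℚ)) ^ 2 := by positivity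
  linarith [hmain]

end Cfsg.Agent.Block.Dih
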