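import Cfsg.Agent.Lib.Fus.DihedralFixed
import Cfsg.Agent.Lib.Block.AbelianThree
import Cfsg.Agent.Lib.Char.QuaternionDerived

/-!
Groups with a dihedral Sylow 2-subgroup: the cyclic subgroup of index two, its fusion and the
centralizers of its elements.
-/

open scoped ComplexConjugate

namespace Cfsg.Agent.Block.Dih

set_option linter.unusedSectionVars false
set_option linter.style.haveILetI false

universe u

variable {G : Type u} [Group G] [Finite G]

/-- A dihedral Sylow subgroup of order `2m` with rotations generated by `σ`. -/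
structure Data (P : Sylow 2 G) (σ : G) (m : ℕ) : Prop where
  four : 4 ≤ m
  pow_two : ∃ k : ℕ, m = 2 ^ k
  mem : σ ∈ (P : Subgroup G)
  order : orderOf σ = m
  card : Nat.card (P : Subgroup G) = 2 * m
  cases : ∀ x ∈ (P : Subgroup G), x ∈ Subgroup.zpowers σ ∨
    (x * x = 1 ∧ x ≠ 1 ∧ x * σ * x⁻¹ = σ⁻¹)
  exists_refl : ∃ x ∈ (P : Subgroup G), x * x = 1 ∧ x * σ * x⁻¹ = σ⁻¹
  complement : ∀ t : G, orderOf t = 2 →
    Cfsg.HasNormalPComplement 2 (Subgroup.centralizer ({t} : Set G))

theorem data_of_equiv (P : Sylow 2 G) {n : ℕ} (hn : 3 ≤ n)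
    (e : (P : Subgroup G) ≃* DihedralGroup (2 ^ (n - 1))) {σ : G} (hσ : σ ∈ (P : Subgroup G))
    (hσo : orderOf σ = 2 ^ (n - 1)) : Data P σ (2 ^ (n - 1)) := by
  classical
  set m := 2 ^ (n - 1) with hm
  haveI : NeZero m := ⟨by positivity⟩
  have hm4 : 4 ≤ m := by
    calc (4 : ℕ) = 2 ^ 2 := by norm_num
      _ ≤ m := Nat.pow_le_pow_right (by norm_num) (by omega)
  obtain ⟨i, hi⟩ : ∃ i, e ⟨σ, hσ⟩ = DihedralGroup.r i := by
    rcases he : e ⟨σ, hσ⟩ with i | i
    · exact ⟨i, rfl⟩
    · exfalso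
      have h : orderOf (e ⟨σ, hσ⟩) = m := by rw [MulEquiv.orderOf_eq, Subgroup.orderOf_mk, hσo]
      rw [he, DihedralGroup.orderOf_sr] at h
      omega
  have hio : orderOf (DihedralGroup.r i : DihedralGroup m) = m := by
    rw [← hi, MulEquiv.orderOf_eq, Subgroup.orderOf_mk, hσo]
  have hrot : Subgroup.zpowers (DihedralGroup.r i : DihedralGroup m) =
      Subgroup.zpowers (DihedralGroup.r 1) := by
    refine Subgroup.eq_of_le_of_card_ge (Subgroup.zpowers_le.2 ⟨(i.val : ℤ), by simp⟩) ?_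
    rw [Nat.card_zpowers, Nat.card_zpowers, hio, DihedralGroup.orderOf_r_one]
  refine ⟨hm4, ⟨n - 1, rfl⟩, hσ, hσo, ?_, fun x hx => ?_, ?_, fun t ht =>
    Cfsg.Agent.Fus.centralizer_normalTwoComplement P e t ht⟩
  · rw [Nat.card_congr e.toEquiv, DihedralGroup.nat_card]
  · rcases he : e ⟨x, hx⟩ with j | j
    · left
      have h1 : (DihedralGroup.r j : DihedralGroup m) ∈ Subgroup.zpowers (DihedralGroup.r i) := by
        rw [hrot]; exact ⟨(j.val : ℤ), by simp⟩
      obtain ⟨k, hk⟩ := Subgroup.mem_zpowers_iff.1 h1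
      rw [← hi, ← he, ← map_zpow] at hk
      have h2 := congrArg Subtype.val (e.injective hk)
      exact Subgroup.mem_zpowers_iff.2 ⟨k, by simpa using h2⟩
    · right
      refine ⟨?_, ?_, ?_⟩
      · have : e (⟨x, hx⟩ * ⟨x, hx⟩) = e 1 := by rw [map_mul, map_one, he]; simp
        simpa using congrArg Subtype.val (e.injective this)
      · intro h
        have : e ⟨x, hx⟩ = e 1 := congrArg e (Subtype.ext h)
        rw [he, map_one, DihedralGroup.one_def] at this
        exact nomatch this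
      · have : e (⟨x, hx⟩ * ⟨σ, hσ⟩ * ⟨x, hx⟩⁻¹) = e ⟨σ, hσ⟩⁻¹ := by
          rw [map_mul, map_mul, map_inv, map_inv, he, hi]
          simp
        simpa using congrArg Subtype.val (e.injective this)
  · refine ⟨e.symm (DihedralGroup.sr 0), (e.symm _).2, ?_, ?_⟩
    · rw [← Subgroup.coe_mul, ← map_mul]; simp
    · have : e (e.symm (DihedralGroup.sr 0) * ⟨σ, hσ⟩ * (e.symm (DihedralGroup.sr 0))⁻¹) =
          e ⟨σ, hσ⟩⁻¹ := by
        rw [map_mul, map_mul, map_inv, map_inv, MulEquiv.apply_symm_apply, hi]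
        simp
      simpa using congrArg Subtype.val (e.injective this)

variable {P : Sylow 2 G} {σ : G} {m : ℕ}

theorem Data.zpowers_le (h : Data P σ m) : Subgroup.zpowers σ ≤ (P : Subgroup G) :=
  Subgroup.zpowers_le.2 h.mem

theorem Data.card_zpowers (h : Data P σ m) : Nat.card (Subgroup.zpowers σ) = m := by
  rw [Nat.card_zpowers, h.order]

theorem Data.isPGroup (h : Data P σ m) : IsPGroup 2 (Subgroup.zpowers σ) := by
  obtain ⟨k, hk⟩ := h.pow_two
  exact IsPGroup.of_card (n := k) (by rw [h.card_zpowers, hk])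

theorem Data.pow_conj (h : Data P σ m) {x : G} (hx : x ∈ (P : Subgroup G)) {w : G}
    (hw : w ∈ Subgroup.zpowers σ) : x * w * x⁻¹ = w ∨ x * w * x⁻¹ = w⁻¹ := by
  obtain ⟨k, rfl⟩ := Subgroup.mem_zpowers_iff.1 hw
  rcases h.cases x hx with hx' | ⟨-, -, hxσ⟩
  · left
    obtain ⟨j, rfl⟩ := Subgroup.mem_zpowers_iff.1 hx'
    rw [← zpow_add, ← zpow_neg, ← zpow_add]
    congr 1; omega
  · right
    rw [← conj_zpow, hxσ, inv_zpow]

theorem Data.le_normalizer (h : Data P σ m) :
    (P : Subgroup G) ≤ Subgroup.normalizer (Subgroup.zpowers σ : Set G) := by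
  intro x hx
  refine Subgroup.mem_normalizer_iff.2 fun w => ⟨fun hw => ?_, fun hw => ?_⟩
  · rcases h.pow_conj hx hw with e | e <;> rw [e]
    · exact hw
    · exact inv_mem hw
  · have e : w = x⁻¹ * (x * w * x⁻¹) * x⁻¹⁻¹ := by group
    rcases h.pow_conj (inv_mem hx) hw with e' | e' <;> rw [e, e']
    · exact hw
    · exact inv_mem hw

/-- Fusion inside the cyclic subgroup is made by `P`. -/
theorem Data.fusion (h : Data P σ m) {u : G} (hu : u ∈ Subgroup.zpowers σ) {g : G}
    (hg : g * u * g⁻¹ ∈ Subgroup.zpowers σ) :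
    ∃ x ∈ (P : Subgroup G), x * u * x⁻¹ = g * u * g⁻¹ := by
  classical
  haveI : Fact (Nat.Prime 2) := ⟨Nat.prime_two⟩
  set W := Subgroup.zpowers u with hW
  have hWS : W ≤ Subgroup.zpowers σ := Subgroup.zpowers_le.2 hu
  have hgW : W.map (MulAut.conj g).toMonoidHom = W := by
    refine Cfsg.Agent.Char.QD.subgroup_eq (H := Subgroup.zpowers σ) ?_ hWS
      (Nat.card_congr (Subgroup.equivMapOfInjective W _ (MulAut.conj g).injective).symm.toEquiv)
    rw [hW, MonoidHom.map_zpowers]
    exact Subgroup.zpowers_le.2 (by simpa using hg)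
  have hgN : g ∈ Subgroup.normalizer (W : Set G) := by
    refine Subgroup.mem_normalizer_iff.2 fun w => ⟨fun hw => ?_, fun hw => ?_⟩
    · rw [← hgW]; exact ⟨w, hw, rfl⟩
    · rw [← hgW] at hw
      obtain ⟨w', hw', e⟩ := hw
      have : w' = w := by simpa using e
      exact this ▸ hw'
  set N := Subgroup.normalizer (W : Set G) with hN
  have hPN : (P : Subgroup G) ≤ N := by
    intro x hx
    refine Subgroup.mem_normalizer_iff.2 fun w => ⟨fun hw => ?_, fun hw => ?_⟩
    · rcases h.pow_conj hx (hWS hw) with e | e <;> rw [e]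
      · exact hw
      · exact inv_mem hw
    · have e : w = x⁻¹ * (x * w * x⁻¹) * x⁻¹⁻¹ := by group
      rcases h.pow_conj (inv_mem hx) (hWS hw) with e' | e' <;> rw [e, e']
      · exact hw
      · exact inv_mem hw
  set K := (Subgroup.normalizerMonoidHom W).ker with hK
  set P' := (P : Subgroup G).subgroupOf N
  have hKidx : ∃ k, K.index ∣ 2 ^ k := by
    obtain ⟨k, hk⟩ := IsPGroup.iff_card.1 (h.isPGroup.to_le hWS)
    refine ⟨k, ?_⟩
    rw [hK, Subgroup.index_ker]
    refine (Subgroup.card_subgroup_dvd_card _).trans ?_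
    haveI : IsCyclic W := Subgroup.isCyclic_of_le hWS
    rw [IsCyclic.card_mulAut, hk]
    rcases k with _ | k
    · simp
    · rw [Nat.totient_prime_pow_succ Nat.prime_two]
      simpa using pow_dvd_pow 2 (Nat.le_succ k)
  have hP'idx : ¬ 2 ∣ P'.index := fun hd =>
    P.not_dvd_index (hd.trans (Subgroup.relIndex_dvd_index_of_le hPN))
  have htop : K ⊔ P' = ⊤ := by
    obtain ⟨k, hk⟩ := hKidx
    have h1 : (K ⊔ P').index ∣ 2 ^ k := (Subgroup.index_dvd_of_le le_sup_left).trans hk
    have h2 : (K ⊔ P').index ∣ P'.index := Subgroup.index_dvd_of_le le_sup_right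
    have hco : Nat.Coprime (2 ^ k) P'.index :=
      Nat.Coprime.pow_left _ (Nat.prime_two.coprime_iff_not_dvd.2 hP'idx)
    exact Subgroup.index_eq_one.1 (Nat.eq_one_of_dvd_coprimes hco h1 h2)
  obtain ⟨c, hc, x, hx, hcx⟩ := Subgroup.mem_sup_of_normal_left.1
    (htop ▸ Subgroup.mem_top (⟨g, hgN⟩ : N))
  refine ⟨(x : G), hx, ?_⟩
  have hxu : (x : G) * u * (x : G)⁻¹ ∈ W :=
    (Subgroup.mem_normalizer_iff.1 x.2 u).1 (Subgroup.mem_zpowers u)
  have hcfix : ∀ w ∈ W, (c : G) * w * (c : G)⁻¹ = w := fun w hw =>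
    congrArg Subtype.val (DFunLike.congr_fun (MonoidHom.mem_ker.1 hc) (⟨w, hw⟩ : W))
  have e := hcfix _ hxu
  rw [show g = (c : G) * (x : G) from (congrArg Subtype.val hcx).symm]
  calc (x : G) * u * (x : G)⁻¹ = (c : G) * ((x : G) * u * (x : G)⁻¹) * (c : G)⁻¹ := e.symm
    _ = _ := by group

/-- A 2-element commuting with a rotation of order at least four is a rotation. -/
theorem Data.centralizer_rotation (h : Data P σ m) {u : G} (hu : u ∈ Subgroup.zpowers σ)
    (hu2 : u * u ≠ 1) {w : G} (hw : w ∈ (P : Subgroup G)) (hwu : w * u = u * w) :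
    w ∈ Subgroup.zpowers σ := by
  rcases h.cases w hw with hw' | ⟨-, -, hwσ⟩
  · exact hw'
  · exfalso
    obtain ⟨k, rfl⟩ := Subgroup.mem_zpowers_iff.1 hu
    have e : w * σ ^ k * w⁻¹ = (σ ^ k)⁻¹ := by rw [← conj_zpow, hwσ, inv_zpow]
    rw [hwu, mul_inv_cancel_right] at e
    exact hu2 (eq_inv_iff_mul_eq_one.1 e)

theorem Data.rotation_of_four (h : Data P σ m) {u : G} (hu : u ∈ (P : Subgroup G))
    (hu2 : u * u ≠ 1) : u ∈ Subgroup.zpowers σ :=
  (h.cases u hu).resolve_right fun e => hu2 e.1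

/-- The 2-part of the centralizer of a rotation. -/
theorem Data.card_centralizer_rotation (h : Data P σ m) {u : G} (hu : u ∈ Subgroup.zpowers σ)
    (hu1 : u ≠ 1) :
    2 ^ (Nat.card (Subgroup.centralizer ({u} : Set G))).factorization 2 =
      Nat.card ↥((P : Subgroup G) ⊓ Subgroup.centralizer ({u} : Set G)) := by
  classical
  haveI : Fact (Nat.Prime 2) := ⟨Nat.prime_two⟩
  set C := Subgroup.centralizer ({u} : Set G)
  obtain ⟨Q⟩ : Nonempty (Sylow 2 C) := inferInstance
  rw [← Sylow.card_eq_multiplicity Q]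
  have hA : IsPGroup 2 ↥(((P : Subgroup G) ⊓ C).subgroupOf C) :=
    (P.isPGroup'.to_le inf_le_left).comap_subtype
  obtain ⟨Q', hQ'⟩ := hA.exists_le_sylow
  rw [← Sylow.card_eq_multiplicity Q' |>.trans (Sylow.card_eq_multiplicity Q).symm]
  refine le_antisymm ?_ ?_
  · by_cases hu2 : u * u = 1
    · have hle : (P : Subgroup G) ≤ C := fun x hx => by
        refine Subgroup.mem_centralizer_singleton_iff.2 (mul_inv_eq_iff_eq_mul.1 ?_)
        rcases h.pow_conj hx hu with e | e
        · exact e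
        · rw [e, inv_eq_iff_mul_eq_one.2 hu2]
      rw [inf_eq_left.2 hle]
      have h1 : Nat.card (Q' : Subgroup C) ≤ 2 ^ (Nat.card G).factorization 2 := by
        obtain ⟨R, hR⟩ := (Q'.isPGroup'.map C.subtype).exists_le_sylow
        rw [← Sylow.card_eq_multiplicity R, Nat.card_congr
          (Subgroup.equivMapOfInjective (Q' : Subgroup C) C.subtype C.subtype_injective).toEquiv]
        exact Subgroup.card_le_of_le hR
      rwa [← Sylow.card_eq_multiplicity P] at h1
    · -- conjugate a Sylow subgroup of the centralizer into `P`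
      obtain ⟨R, hR⟩ := (Q'.isPGroup'.map C.subtype).exists_le_sylow
      obtain ⟨c, hc⟩ := MulAction.exists_smul_eq G R P
      have hmem : ∀ w ∈ (R : Subgroup G), c * w * c⁻¹ ∈ (P : Subgroup G) := fun w hw => by
        rw [← hc]; exact ⟨w, hw, rfl⟩
      have huQ : u ∈ (R : Subgroup G) := hR ⟨⟨u, centralizer_self_mem u⟩,
        hQ' (Subgroup.mem_subgroupOf.2 ⟨h.zpowers_le hu, centralizer_self_mem u⟩), rfl⟩
      have hu' : c * u * c⁻¹ ∈ Subgroup.zpowers σ := h.rotation_of_four (hmem u huQ) fun e => hu2 (by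
        rw [show c * u * c⁻¹ * (c * u * c⁻¹) = c * (u * u) * c⁻¹ by group] at e
        exact conj_eq_one_iff.1 e)
      have hu'2 : c * u * c⁻¹ * (c * u * c⁻¹) ≠ 1 := fun e => hu2 (by
        rw [show c * u * c⁻¹ * (c * u * c⁻¹) = c * (u * u) * c⁻¹ by group] at e
        exact conj_eq_one_iff.1 e)
      let f : ↥(Q' : Subgroup C) → Subgroup.zpowers σ := fun q =>
        ⟨c * ((q : C) : G) * c⁻¹, h.centralizer_rotation hu' hu'2 (hmem _ (hR ⟨q, q.2, rfl⟩)) (by
          have := Subgroup.mem_centralizer_singleton_iff.1 (q : C).2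
          calc c * ((q : C) : G) * c⁻¹ * (c * u * c⁻¹) = c * (((q : C) : G) * u) * c⁻¹ := by group
            _ = c * (u * ((q : C) : G)) * c⁻¹ := by rw [this]
            _ = _ := by group)⟩
      have hf : Function.Injective f := fun a b e => by
        have := congrArg Subtype.val e
        simp only [f, mul_left_inj, mul_right_inj] at this
        exact Subtype.ext (Subtype.ext this)
      refine (Nat.card_le_card_of_injective f hf).trans (Subgroup.card_le_of_le ?_)
      intro w hw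
      refine ⟨h.zpowers_le hw, Subgroup.mem_centralizer_singleton_iff.2 ?_⟩
      obtain ⟨i, rfl⟩ := Subgroup.mem_zpowers_iff.1 hw
      obtain ⟨j, rfl⟩ := Subgroup.mem_zpowers_iff.1 hu
      rw [← zpow_add, ← zpow_add, add_comm]
  · rw [← Nat.card_congr (Subgroup.subgroupOfEquivOfLe (inf_le_right :
      (P : Subgroup G) ⊓ C ≤ C)).toEquiv]
    exact Subgroup.card_le_of_le hQ'

/-- Brauer's column sum at a 2-element with 2-nilpotent centralizer. -/
theorem column_eq {M : Ideal AlgInt} (hM : IsPModular 2 M) {H : Type u} [Group H] [Finite H]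
    (h : Cfsg.HasNormalPComplement 2 H) :
    ∑ᶠ ξ ∈ principalBlock M H, ((charDegree (ξ : H → ℂ) : ℕ) : ℂ) ^ 2 =
      ((2 ^ (Nat.card H).factorization 2 : ℕ) : ℂ) := by
  haveI : Fact (Nat.Prime 2) := ⟨Nat.prime_two⟩
  obtain ⟨K, hKn, hK, k, hk⟩ := Cfsg.Agent.Transfer.hasNormalPComplement_iff_exists.1 h
  have e := principal_column_complement hM hK hk (y := (1 : H)) (by
    rw [orderOf_one]; norm_num)
  rw [← e]
  refine finsum_congr fun ξ => finsum_congr fun _ => ?_
  rw [charDeg_spec' ξ, Complex.conj_natCast, sq]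

theorem Data.complement_rotation (h : Data P σ m) {u : G} (hu : u ∈ Subgroup.zpowers σ)
    (hu1 : u ≠ 1) : Cfsg.HasNormalPComplement 2 (Subgroup.centralizer ({u} : Set G)) := by
  haveI : Fact (Nat.Prime 2) := ⟨Nat.prime_two⟩
  have hord : 2 ∣ orderOf u := by
    obtain ⟨k, hk⟩ := IsPGroup.iff_orderOf.1 h.isPGroup ⟨u, hu⟩
    rw [Subgroup.orderOf_mk] at hk
    rcases k with _ | k
    · exact absurd (orderOf_eq_one_iff.1 (by simpa using hk)) hu1
    · exact hk ▸ dvd_pow_self 2 (by omega)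
  refine Cfsg.Agent.Transfer.hasNormalPComplement_mono ?_
    (h.complement (u ^ (orderOf u / 2)) (orderOf_pow_orderOf_div (orderOf_pos u).ne' hord))
  intro x hx
  exact Subgroup.mem_centralizer_singleton_iff.2
    ((show Commute x u from Subgroup.mem_centralizer_singleton_iff.1 hx).pow_right _).eq

theorem Data.section_const (h : Data P σ m) {M : Ideal AlgInt} (hM : IsPModular 2 M) {z : G}
    (hz2 : ∃ k : ℕ, orderOf z = 2 ^ k)
    (hz : Cfsg.HasNormalPComplement 2 (Subgroup.centralizer ({z} : Set G)))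
    {v : Subgroup.centralizer ({z} : Set G)} (hv : ¬ 2 ∣ orderOf v) {χ : IrrCharacter G}
    (hχ : χ ∈ principalBlock M G) : (χ : G → ℂ) (z * (v : G)) = (χ : G → ℂ) z := by
  haveI : Fact (Nat.Prime 2) := ⟨Nat.prime_two⟩
  obtain ⟨K, hKn, hK, k, hk⟩ := Cfsg.Agent.Transfer.hasNormalPComplement_iff_exists.1 hz
  exact principal_section_const hM hz2 hK hv (regular_mem_of_index_pPow hk hv) hχ

end Cfsg.Agent.Block.Dih
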